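import Cfsg.Agent.Lib.SelfNorm.Perfect
import Cfsg.Agent.Lib.Transfer.Basic

/-!
# Simple groups in which non-abelian subgroups are self-normalising have abelian centralisers
-/

set_option autoImplicit false
set_option linter.style.haveILetI false
set_option linter.unusedSectionVars false

namespace CfsgLib.SelfNorm15

open Subgroup
open scoped commutatorElement

universe u

variable {G : Type u} [Group G]

theorem mem_normalizer_of_conj_le [Finite G] {L : Subgroup G} {g : G}
    (h : ∀ z ∈ L, g * z * g⁻¹ ∈ L) : g ∈ normalizer (L : Set G) := by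
  refine mem_normalizer_iff.2 fun z => ⟨h z, fun hz => ?_⟩
  let σ : L → L := fun w => ⟨g * w * g⁻¹, h w w.2⟩
  have hσ : Function.Injective σ := fun a b hab => Subtype.ext (by
    simpa [σ] using congrArg Subtype.val hab)
  obtain ⟨w, hw⟩ := (Finite.injective_iff_surjective.1 hσ) ⟨_, hz⟩
  have h1 : g * (w : G) * g⁻¹ = g * z * g⁻¹ := congrArg Subtype.val hw
  have h2 : (w : G) = z := mul_left_cancel (mul_right_cancel h1)
  exact h2 ▸ w.2

theorem zpowers_normal_of_center {x : G} (hx : x ∈ center G) : (zpowers x).Normal := ⟨fun w hw g => by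
  obtain ⟨k, rfl⟩ := mem_zpowers_iff.1 hw
  rw [mem_center_iff.1 ((center G).zpow_mem hx k) g, mul_inv_cancel_right]
  exact zpow_mem (mem_zpowers x) k⟩

/-- In a finite cyclic group subgroups of equal order are equal. -/
theorem eq_of_card_eq_of_cyclic {C : Type u} [Group C] [Finite C] [IsCyclic C] {A B : Subgroup C}
    (h : Nat.card A = Nat.card B) : A = B := by
  classical
  haveI := Fintype.ofFinite C
  have hsub : ∀ D : Subgroup C, Nat.card D = Nat.card A →
      (Finset.univ.filter fun c : C => c ^ Nat.card A = 1) =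
        Finset.univ.filter fun c : C => c ∈ D := by
    intro D hD
    refine (Finset.eq_of_subset_of_card_le (fun c hc => ?_) ?_).symm
    · refine Finset.mem_filter.2 ⟨Finset.mem_univ _, ?_⟩
      rw [← hD]
      exact congrArg Subtype.val (pow_card_eq_one' (x := (⟨c, (Finset.mem_filter.1 hc).2⟩ : D)))
    · refine (IsCyclic.card_pow_eq_one_le Nat.card_pos).trans ?_
      rw [← Fintype.card_subtype, ← Nat.card_eq_fintype_card]
      exact hD.ge
  have e := (hsub A rfl).symm.trans (hsub B h.symm)
  ext c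
  have := Finset.ext_iff.1 e c
  simpa using this

/-- A normal maximal subgroup has prime index. -/
theorem prime_index_of_coatom {K : Type u} [Group K] [Finite K] (M : Subgroup K) [M.Normal]
    (hM : IsCoatom M) : M.index.Prime := by
  classical
  set f := QuotientGroup.mk' M with hfdef
  have hf : Function.Surjective f := QuotientGroup.mk'_surjective M
  haveI : Nontrivial (K ⧸ M) := by
    rw [← Finite.one_lt_card_iff_nontrivial, ← index_eq_card]
    exact lt_of_le_of_ne (Nat.one_le_iff_ne_zero.2 index_ne_zero_of_finite)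
      fun e => hM.1 (index_eq_one.1 e.symm)
  obtain ⟨q, hq, hd⟩ := Nat.exists_prime_and_dvd (n := Nat.card (K ⧸ M)) Finite.one_lt_card.ne'
  haveI := Fact.mk hq
  obtain ⟨c, hc⟩ := exists_prime_orderOf_dvd_card' (G := K ⧸ M) q hd
  obtain ⟨m, rfl⟩ := hf c
  have hlt : M < (zpowers (f m)).comap f := by
    refine lt_of_le_of_ne (fun a ha => ?_) fun e => ?_
    · rw [mem_comap, show f a = 1 from (QuotientGroup.eq_one_iff a).2 ha]
      exact one_mem _
    · have : m ∈ M := e.symm.le (mem_comap.2 (mem_zpowers (f m)))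
      rw [hfdef, QuotientGroup.mk'_apply, (QuotientGroup.eq_one_iff m).2 this, orderOf_one] at hc
      exact hq.one_lt.ne hc
  have htop : zpowers (f m) = ⊤ := by
    rw [← map_comap_eq_self_of_surjective hf (zpowers (f m)), hM.2 _ hlt,
      map_top_of_surjective _ hf]
  rw [index_eq_card, ← card_top (G := K ⧸ M), ← htop, Nat.card_zpowers, hc]
  exact hq

/-- The structure of a non-abelian group with a central element and a normal abelian subgroup of
prime index `r`, not of `r`-power order: the Sylow `r`-subgroup is cyclic and self-normalising. -/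
theorem central_case {H : Type u} [Group H] [Finite H] (hsn : SN H) (M : Subgroup H) [M.Normal]
    (hM : Ab M) {r : ℕ} [Fact r.Prime] (hidx : M.index = r) (hna : ¬ ∀ a b : H, a * b = b * a)
    (hnp : ¬ IsPGroup r H) {x : H} (hx : x ∈ center H) (R : Sylow r H) :
    IsCyclic (R : Subgroup H) ∧ x ∈ (R : Subgroup H) ∧
      normalizer ((R : Subgroup H) : Set H) = (R : Subgroup H) := by
  classical
  have hr : r.Prime := Fact.out
  -- the `r'`-part of `M`
  let N : Subgroup H :=
    { carrier := {m | m ∈ M ∧ (orderOf m).Coprime r}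
      one_mem' := ⟨one_mem M, by simp⟩
      mul_mem' := by
        rintro a b ⟨ha, ha'⟩ ⟨hb, hb'⟩
        refine ⟨mul_mem ha hb, ?_⟩
        refine Nat.Coprime.coprime_dvd_left ((show Commute a b from hM a ha b hb).orderOf_mul_dvd_lcm) ?_
        exact (Nat.Coprime.mul_left ha' hb').coprime_dvd_left (Nat.lcm_dvd_mul _ _)
      inv_mem' := by
        rintro a ⟨ha, ha'⟩
        exact ⟨inv_mem ha, by rwa [orderOf_inv]⟩ }
  have hmemN : ∀ {m : H}, m ∈ N ↔ m ∈ M ∧ (orderOf m).Coprime r := Iff.rfl
  have hNM : N ≤ M := fun m hm => (hmemN.1 hm).1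
  haveI hNn : N.Normal := ⟨fun m hm g => hmemN.2
    ⟨(inferInstance : M.Normal).conj_mem m (hNM hm) g, by
      rw [← MulAut.conj_apply, MulEquiv.orderOf_eq]; exact (hmemN.1 hm).2⟩⟩
  have hdisj : ∀ {m : H}, m ∈ N → m ∈ (R : Subgroup H) → m = 1 := by
    intro m hm hmR
    obtain ⟨k, hk⟩ := IsPGroup.iff_orderOf.1 R.2 ⟨m, hmR⟩
    rw [← orderOf_coe] at hk
    have h1 := (hmemN.1 hm).2
    rw [show orderOf m = r ^ k from hk] at h1
    rcases Nat.eq_zero_or_pos k with rfl | hk0
    · rw [pow_zero] at hk; exact orderOf_eq_one_iff.1 hk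
    · exact absurd ((Nat.coprime_pow_left_iff hk0 r r).1 h1)
        (by rw [Nat.coprime_self]; exact hr.one_lt.ne')
  -- the quotient by it is an `r`-group
  have hquot : ∀ g : H, ∃ k : ℕ, g ^ r ^ k ∈ N := by
    intro g
    have hgM : g ^ r ∈ M := hidx ▸ M.pow_index_mem g
    obtain ⟨k, n, hn, he⟩ := Nat.exists_eq_pow_mul_and_not_dvd (orderOf_pos (g ^ r)).ne' r hr.ne_one
    refine ⟨k + 1, hmemN.2 ⟨?_, ?_⟩⟩
    · rw [pow_succ', pow_mul]; exact pow_mem hgM _
    · rw [pow_succ', pow_mul, orderOf_pow_of_dvd (pow_ne_zero _ hr.pos.ne') (he ▸ dvd_mul_right _ _),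
        he, Nat.mul_div_cancel_left _ (pow_pos hr.pos _)]
      exact (Nat.coprime_comm.1 (hr.coprime_iff_not_dvd.2 hn))
  have hsup : (R : Subgroup H) ⊔ N = ⊤ := CfsgLib.Transfer.sylow_sup_eq_top R N fun q => by
    obtain ⟨g, rfl⟩ := QuotientGroup.mk'_surjective N q
    obtain ⟨k, hk⟩ := hquot g
    exact ⟨k, by rw [← map_pow]; exact (QuotientGroup.eq_one_iff _).2 hk⟩
  obtain ⟨y, hyR, hyM⟩ : ∃ y ∈ (R : Subgroup H), y ∉ M := by
    by_contra hc
    push Not at hc
    have h1 : (⊤ : Subgroup H) ≤ M := hsup.ge.trans (sup_le hc hNM)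
    rw [eq_top_iff.2 h1, index_top] at hidx
    exact hr.one_lt.ne hidx
  have hgen : M ⊔ zpowers y = ⊤ := by
    rw [← index_eq_one]
    have h1 : (M ⊔ zpowers y).index ∣ r := hidx ▸ index_dvd_of_le le_sup_left
    refine ((Nat.dvd_prime hr).1 h1).resolve_right fun h2 => hyM ?_
    have h3 := relIndex_mul_index (le_sup_left : M ≤ M ⊔ zpowers y)
    rw [h2, hidx] at h3
    have h4 : M.relIndex (M ⊔ zpowers y) = 1 :=
      Nat.eq_of_mul_eq_mul_right hr.pos (by rw [h3, one_mul])
    exact relIndex_eq_one.1 h4 (mem_sup_right (mem_zpowers y))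
  have hN1 : N ≠ ⊥ := by
    intro e
    rw [e, sup_bot_eq] at hsup
    exact hnp fun g => by
      obtain ⟨k, hk⟩ := R.2 ⟨g, hsup.ge (mem_top g)⟩
      exact ⟨k, congrArg Subtype.val hk⟩
  -- `y` moves the `r'`-part
  have hmove : ∀ z ∈ (R : Subgroup H), z ∉ M → ∃ m ∈ N, z * m ≠ m * z := by
    intro z hzR hzM
    by_contra hc
    push Not at hc
    have hall : ∀ g ∈ (R : Subgroup H), ∀ m ∈ N, g * m = m * g := by
      intro g hg m hm
      have hz : M ⊔ zpowers z = ⊤ := by
        rw [← index_eq_one]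
        have h1 : (M ⊔ zpowers z).index ∣ r := hidx ▸ index_dvd_of_le le_sup_left
        refine ((Nat.dvd_prime hr).1 h1).resolve_right fun h2 => hzM ?_
        have h3 := relIndex_mul_index (le_sup_left : M ≤ M ⊔ zpowers z)
        rw [h2, hidx] at h3
        have h4 : M.relIndex (M ⊔ zpowers z) = 1 :=
          Nat.eq_of_mul_eq_mul_right hr.pos (by rw [h3, one_mul])
        exact relIndex_eq_one.1 h4 (mem_sup_right (mem_zpowers z))
      have hle : M ⊔ zpowers z ≤ centralizer ({m} : Set H) := sup_le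
        (fun a ha => mem_centralizer_singleton_iff.2 (hM a ha m (hNM hm)))
        (zpowers_le.2 (mem_centralizer_singleton_iff.2 (hc m hm)))
      exact mem_centralizer_singleton_iff.1 (hle (hz.ge (mem_top g)))
    have hRnorm : ∀ g : H, g ∈ normalizer ((R : Subgroup H) : Set H) := fun g => by
      have hle : (R : Subgroup H) ⊔ N ≤ normalizer ((R : Subgroup H) : Set H) :=
        sup_le le_normalizer fun m hm => mem_normalizer_of_conj_le fun w hw => by
          rw [← hall w hw m hm, mul_inv_cancel_right]; exact hw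
      exact hle (hsup.ge (mem_top g))
    have hRna : ¬ Ab (R : Subgroup H) := by
      intro hab
      refine hna fun a b => ?_
      have hle : ∀ c ∈ (R : Subgroup H) ⊔ N, ∀ d ∈ (R : Subgroup H) ⊔ N, c * d = d * c := by
        have hR : (R : Subgroup H) ⊔ N ≤ centralizer ((R : Subgroup H) : Set H) :=
          sup_le (fun c hc => mem_centralizer_iff.2 fun d hd => hab d hd c hc)
            fun c hc => mem_centralizer_iff.2 fun d hd => hall d hd c hc
        have hN : (R : Subgroup H) ⊔ N ≤ centralizer (N : Set H) :=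
          sup_le (fun c hc => mem_centralizer_iff.2 fun d hd => (hall c hc d hd).symm)
            fun c hc => mem_centralizer_iff.2 fun d hd => hM d (hNM hd) c (hNM hc)
        intro c hc d hd
        have h1 : (R : Subgroup H) ⊔ N ≤ centralizer ({c} : Set H) := sup_le
          (fun e he => mem_centralizer_singleton_iff.2 (mem_centralizer_iff.1 (hR hc) e he))
          (fun e he => mem_centralizer_singleton_iff.2 (mem_centralizer_iff.1 (hN hc) e he))
        exact (mem_centralizer_singleton_iff.1 (h1 hd)).symm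
      exact hle a (hsup.ge (mem_top a)) b (hsup.ge (mem_top b))
    refine hN1 ((Subgroup.eq_bot_iff_forall N).2 fun m hm => hdisj hm ?_)
    exact (hsn _ hRna).le (hRnorm m)
  -- the commutator map of `y`
  have key : ∀ z ∈ (R : Subgroup H), z ∉ M →
      (∀ w ∈ (R : Subgroup H), w * z * w⁻¹ ∈ zpowers z → w ∈ zpowers z) ∧
        ∀ m ∈ N, z * m = m * z → m = 1 := by
    intro z hzR hzM
    have hθN : ∀ m : N, (m : H) * z * (m : H)⁻¹ * z⁻¹ ∈ N := fun m => by
      have e : (m : H) * z * (m : H)⁻¹ * z⁻¹ = (m : H) * (z * (m : H)⁻¹ * z⁻¹) := by group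
      rw [e]
      exact mul_mem m.2 (hNn.conj_mem _ (inv_mem m.2) z)
    let θ : N →* N :=
      { toFun := fun m => ⟨_, hθN m⟩
        map_one' := Subtype.ext (by simp)
        map_mul' := fun a b => Subtype.ext (by
          have h1 : (b : H) * z * (b : H)⁻¹ * z⁻¹ ∈ M := hNM (hθN b)
          have h2 : z * (a : H)⁻¹ * z⁻¹ ∈ M := hNM (hNn.conj_mem _ (inv_mem a.2) z)
          show (a : H) * b * z * ((a : H) * b)⁻¹ * z⁻¹ =
            (a : H) * z * (a : H)⁻¹ * z⁻¹ * ((b : H) * z * (b : H)⁻¹ * z⁻¹)
          calc (a : H) * b * z * ((a : H) * b)⁻¹ * z⁻¹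
              = (a : H) * ((b : H) * z * (b : H)⁻¹ * z⁻¹ * (z * (a : H)⁻¹ * z⁻¹)) := by group
            _ = (a : H) * (z * (a : H)⁻¹ * z⁻¹ * ((b : H) * z * (b : H)⁻¹ * z⁻¹)) := by
                rw [hM _ h1 _ h2]
            _ = _ := by group) }
    set D := θ.range.map N.subtype with hD
    have hDN : D ≤ N := map_subtype_le _
    haveI hDn : D.Normal := by
      refine ⟨fun d hd g => ?_⟩
      have hle : M ⊔ zpowers z ≤ normalizer (D : Set H) := by
        refine sup_le (fun a ha => mem_normalizer_of_conj_le fun w hw => ?_)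
          (zpowers_le.2 (mem_normalizer_of_conj_le fun w hw => ?_))
        · rw [hM a ha w (hNM (hDN hw)), mul_inv_cancel_right]; exact hw
        · obtain ⟨_, ⟨m, rfl⟩, rfl⟩ := hw
          refine ⟨_, ⟨⟨z * (m : H) * z⁻¹, hNn.conj_mem _ m.2 z⟩, rfl⟩, ?_⟩
          show z * (m : H) * z⁻¹ * z * (z * (m : H) * z⁻¹)⁻¹ * z⁻¹ =
            z * ((m : H) * z * (m : H)⁻¹ * z⁻¹) * z⁻¹
          group
      have hz : M ⊔ zpowers z = ⊤ := by
        rw [← index_eq_one]
        have h1 : (M ⊔ zpowers z).index ∣ r := hidx ▸ index_dvd_of_le le_sup_left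
        refine ((Nat.dvd_prime hr).1 h1).resolve_right fun h2 => hzM ?_
        have h3 := relIndex_mul_index (le_sup_left : M ≤ M ⊔ zpowers z)
        rw [h2, hidx] at h3
        have h4 : M.relIndex (M ⊔ zpowers z) = 1 :=
          Nat.eq_of_mul_eq_mul_right hr.pos (by rw [h3, one_mul])
        exact relIndex_eq_one.1 h4 (mem_sup_right (mem_zpowers z))
      exact (mem_normalizer_iff.1 (hle (hz.ge (mem_top g))) d).1 hd
    set L := D ⊔ zpowers z with hL
    have hNL : N ≤ normalizer (L : Set H) := by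
      intro m hm
      refine mem_normalizer_of_conj_le fun w hw => ?_
      obtain ⟨d, hd, v, hv, rfl⟩ := mem_sup_of_normal_left.1 hw
      obtain ⟨j, rfl⟩ := mem_zpowers_iff.1 hv
      have h1 : m * z * m⁻¹ ∈ L := by
        have e : m * z * m⁻¹ = m * z * m⁻¹ * z⁻¹ * z := by group
        rw [e]
        exact mul_mem (mem_sup_left ⟨_, ⟨⟨m, hm⟩, rfl⟩, rfl⟩) (mem_sup_right (mem_zpowers z))
      have e : m * (d * z ^ j) * m⁻¹ = d * (m * z * m⁻¹) ^ j := by
        rw [conj_zpow]
        calc m * (d * z ^ j) * m⁻¹ = m * d * z ^ j * m⁻¹ := by group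
          _ = d * m * z ^ j * m⁻¹ := by rw [hM m (hNM hm) d (hNM (hDN hd))]
          _ = d * (m * z ^ j * m⁻¹) := by group
      rw [e]
      exact mul_mem (mem_sup_left hd) (zpow_mem h1 j)
    have hLna : ¬ Ab L := by
      intro hab
      obtain ⟨m, hm, hzm⟩ := hmove z hzR hzM
      set c := m * z * m⁻¹ * z⁻¹
      have hc : c ∈ L := mem_sup_left ⟨_, ⟨⟨m, hm⟩, rfl⟩, rfl⟩
      have hcz : z * c = c * z := hab z (mem_sup_right (mem_zpowers z)) c hc
      have hpow : ∀ i : ℕ, m * z ^ i * m⁻¹ = c ^ i * z ^ i := fun i => by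
        rw [← conj_pow, show m * z * m⁻¹ = c * z by simp [c],
          (show Commute c z from hcz.symm).mul_pow]
      obtain ⟨k, hk⟩ := IsPGroup.iff_orderOf.1 R.2 ⟨z, hzR⟩
      rw [← orderOf_coe] at hk
      have h1 := hpow (orderOf z)
      rw [pow_orderOf_eq_one, mul_one, mul_one, mul_inv_cancel] at h1
      have h2 : orderOf c ∣ orderOf z := orderOf_dvd_of_pow_eq_one h1.symm
      have h3 : (orderOf c).Coprime r := (hmemN.1 (hθN ⟨m, hm⟩)).2
      have h4 : c = 1 := by
        refine orderOf_eq_one_iff.1 (Nat.dvd_one.1 ?_)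
        rw [show orderOf z = r ^ k from hk] at h2
        exact (Nat.Coprime.dvd_of_dvd_mul_left (h3.pow_right k) (by rwa [mul_one] : orderOf c ∣ r ^ k * 1))
      refine hzm ?_
      have h5 : m * z * m⁻¹ = z := by
        have e : m * z * m⁻¹ = c * z := by simp [c]
        rw [e, h4, one_mul]
      exact (mul_inv_eq_iff_eq_mul.1 h5).symm
    have hLself := hsn L hLna
    have hmem : ∀ w ∈ L, ∃ d ∈ D, ∃ j : ℤ, w = d * z ^ j := fun w hw => by
      obtain ⟨d, hd, v, hv, rfl⟩ := mem_sup_of_normal_left.1 hw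
      obtain ⟨j, rfl⟩ := mem_zpowers_iff.1 hv
      exact ⟨d, hd, j, rfl⟩
    refine ⟨fun w hwR hw => ?_, fun m hm hcomm => ?_⟩
    · have hwL : w ∈ normalizer (L : Set H) := mem_normalizer_of_conj_le fun v hv => by
        obtain ⟨d, hd, j, rfl⟩ := hmem v hv
        have e : w * (d * z ^ j) * w⁻¹ = w * d * w⁻¹ * (w * z * w⁻¹) ^ j := by
          rw [conj_zpow]; group
        rw [e]
        exact mul_mem (mem_sup_left (hDn.conj_mem d hd w))
          (zpow_mem (mem_sup_right hw) j)
      obtain ⟨d, hd, j, hwe⟩ := hmem w (hLself.le hwL)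
      have hd1 : d = 1 := hdisj (hDN hd) (by
        have e : d = w * (z ^ j)⁻¹ := by rw [hwe, mul_inv_cancel_right]
        rw [e]
        exact mul_mem hwR (inv_mem (zpow_mem hzR j)))
      rw [hwe, hd1, one_mul]
      exact zpow_mem (mem_zpowers z) j
    · have hsurj : Function.Surjective θ := by
        intro n
        obtain ⟨d, hd, j, hne⟩ := hmem n (hLself.le (hNL n.2))
        have hz1 : z ^ j = 1 := hdisj (by
          have e : z ^ j = d⁻¹ * (n : H) := by rw [hne, inv_mul_cancel_left]
          rw [e]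
          exact mul_mem (inv_mem (hDN hd)) n.2) (zpow_mem hzR j)
        obtain ⟨_, ⟨m', rfl⟩, hm'⟩ := hd
        exact ⟨m', Subtype.ext (by rw [hne, hz1, mul_one]; exact hm')⟩
      have hinj : Function.Injective θ := Finite.injective_iff_surjective.2 hsurj
      have h1 : θ ⟨m, hm⟩ = θ 1 := by
        rw [map_one]
        refine Subtype.ext ?_
        show m * z * m⁻¹ * z⁻¹ = 1
        rw [← hcomm, mul_inv_cancel_right, mul_inv_cancel]
      exact congrArg Subtype.val (hinj h1)
  obtain ⟨hkey1, hkey2⟩ := key y hyR hyM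
  -- the Sylow subgroup is cyclic
  have hRz : (R : Subgroup H) = zpowers y := by
    by_contra hne
    haveI := R.2.isNilpotent
    have hlt : (zpowers y).subgroupOf (R : Subgroup H) < ⊤ := lt_of_le_of_ne le_top fun e =>
      hne (le_antisymm (subgroupOf_eq_top.1 e) (zpowers_le.2 hyR))
    obtain ⟨-, c, hc, hcn⟩ := SetLike.lt_iff_le_and_exists.1
      (Group.normalizerCondition_of_isNilpotent _ hlt)
    exact hcn (mem_subgroupOf.2 (hkey1 c c.2
      ((mem_normalizer_iff.1 hc ⟨y, hyR⟩).1 (mem_zpowers y))))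
  refine ⟨?_, ?_, ?_⟩
  · rw [hRz]; infer_instance
  · obtain ⟨k, hk⟩ := hquot x
    have h1 : x ^ r ^ k = 1 := hkey2 _ hk (mem_center_iff.1 ((center H).pow_mem hx _) y)
    haveI := zpowers_normal_of_center hx
    have h2 : IsPGroup r (zpowers x) := fun w => by
      obtain ⟨w, hw⟩ := w
      obtain ⟨j, rfl⟩ := mem_zpowers_iff.1 hw
      refine ⟨k, Subtype.ext ?_⟩
      show (x ^ j) ^ r ^ k = 1
      rw [← zpow_natCast, ← zpow_mul, mul_comm, zpow_mul, zpow_natCast, h1, one_zpow]
    rw [← R.3 (h2.to_sup_of_normal_left R.2) le_sup_right]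
    exact mem_sup_left (mem_zpowers x)
  · refine le_antisymm (fun g hg => ?_) le_normalizer
    obtain ⟨m, hm, w, hw, rfl⟩ := mem_sup_of_normal_left.1
      ((sup_comm (a := (R : Subgroup H)) (b := N)).symm.trans hsup ▸ mem_top g :
        g ∈ N ⊔ (R : Subgroup H))
    have hmN : m ∈ normalizer ((R : Subgroup H) : Set H) := by
      have h1 := mul_mem hg (inv_mem (le_normalizer hw))
      rwa [mul_inv_cancel_right] at h1
    have h1 : m * y * m⁻¹ * y⁻¹ ∈ (R : Subgroup H) :=
      mul_mem ((mem_normalizer_iff.1 hmN y).1 hyR) (inv_mem hyR)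
    have h2 : m * y * m⁻¹ * y⁻¹ ∈ N := by
      have e : m * y * m⁻¹ * y⁻¹ = m * (y * m⁻¹ * y⁻¹) := by group
      rw [e]
      exact mul_mem hm (hNn.conj_mem _ (inv_mem hm) y)
    have h3 : m * y = y * m :=
      mul_inv_eq_iff_eq_mul.1 (mul_inv_eq_one.1 (hdisj h2 h1))
    rw [hkey2 m hm h3.symm, one_mul]
    exact hw

/-- An overgroup of a non-abelian Sylow subgroup normalising a subgroup that contains a central
element is the Sylow subgroup itself. -/
theorem sylow_of_struct [Finite G] {p : ℕ} [Fact p.Prime] (P : Sylow p G)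
    (hP : ¬ Ab (P : Subgroup G)) {W : Subgroup G} (hPW : (P : Subgroup G) ≤ W) (M : Subgroup W)
    [M.Normal] (hM : Ab M) (hidx : M.index.Prime) {A : Subgroup G} (hAP : A ≤ (P : Subgroup G))
    {z : G} (hzA : z ∈ A) (hz : centralizer ({z} : Set G) = (P : Subgroup G))
    (hW : ∀ w ∈ W, ∀ a ∈ A, w * a * w⁻¹ ∈ A) : W ≤ (P : Subgroup G) := by
  classical
  have hp : p.Prime := Fact.out
  have hMp : ∀ m : W, m ∈ M → (orderOf m).Coprime p → m = 1 := by
    intro m hm hmo
    set z' : W := ⟨z, hPW (hAP hzA)⟩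
    set c := m * z' * m⁻¹ * z'⁻¹ with hc
    have hcM : c ∈ M := by
      have e : c = m * (z' * m⁻¹ * z'⁻¹) := by rw [hc]; group
      rw [e]
      exact mul_mem hm ((inferInstance : M.Normal).conj_mem _ (inv_mem hm) z')
    have hcA : (c : G) ∈ A := mul_mem (hW m m.2 z hzA) (inv_mem hzA)
    have hcm : m * c = c * m := hM m hm c hcM
    have hpow : ∀ i : ℕ, m ^ i * z' * (m ^ i)⁻¹ = c ^ i * z' := fun i => by
      induction i with
      | zero => simp
      | succ i ih =>
        calc m ^ (i + 1) * z' * (m ^ (i + 1))⁻¹ = m * (m ^ i * z' * (m ^ i)⁻¹) * m⁻¹ := by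
              rw [pow_succ']; group
          _ = m * c ^ i * z' * m⁻¹ := by rw [ih]; group
          _ = c ^ i * (m * z' * m⁻¹) := by
              rw [((show Commute m c from hcm).pow_right i).eq]; group
          _ = c ^ (i + 1) * z' := by rw [pow_succ, hc]; group
    have h1 := hpow (orderOf m)
    rw [pow_orderOf_eq_one, one_mul, inv_one, mul_one] at h1
    have h2 : orderOf c ∣ orderOf m :=
      orderOf_dvd_of_pow_eq_one (mul_right_cancel (b := z') (by rw [one_mul]; exact h1.symm))
    obtain ⟨k, hk⟩ := IsPGroup.iff_orderOf.1 P.2 ⟨(c : G), hAP hcA⟩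
    rw [← orderOf_coe, orderOf_coe c] at hk
    have hc1 : c = 1 := orderOf_eq_one_iff.1 (Nat.eq_one_of_dvd_coprimes (hmo.pow_right k) h2
      (by rw [hk]))
    have hmz : (m : G) * z = z * m := by
      rw [hc, mul_inv_eq_one, mul_inv_eq_iff_eq_mul] at hc1
      exact congrArg Subtype.val hc1
    have hmP : (m : G) ∈ (P : Subgroup G) := hz.le (mem_centralizer_singleton_iff.2 hmz)
    obtain ⟨j, hj⟩ := IsPGroup.iff_orderOf.1 P.2 ⟨(m : G), hmP⟩
    rw [← orderOf_coe, orderOf_coe m] at hj
    exact orderOf_eq_one_iff.1 (Nat.eq_one_of_dvd_coprimes (hmo.pow_right j) dvd_rfl (by rw [hj]))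
  have hMpG : IsPGroup p M := fun m => by
    obtain ⟨k, n, hn, he⟩ := Nat.exists_eq_pow_mul_and_not_dvd (orderOf_pos (m : W)).ne' p hp.ne_one
    refine ⟨k, Subtype.ext (hMp _ (pow_mem m.2 _) ?_)⟩
    rw [Subgroup.coe_pow, orderOf_pow_of_dvd (pow_ne_zero _ hp.pos.ne') (he ▸ dvd_mul_right _ _), he,
      Nat.mul_div_cancel_left _ (pow_pos hp.pos _)]
    exact Nat.coprime_comm.1 (hp.coprime_iff_not_dvd.2 hn)
  obtain ⟨j, hj⟩ := hMpG.exists_card_eq
  -- the index is `p`
  obtain ⟨q, hq, hqM⟩ : ∃ q : W, (q : G) ∈ (P : Subgroup G) ∧ q ∉ M := by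
    by_contra hc
    push Not at hc
    exact hP fun a ha b hb => congrArg Subtype.val
      (hM ⟨a, hPW ha⟩ (hc _ ha) ⟨b, hPW hb⟩ (hc _ hb))
  have hidxp : M.index = p := by
    obtain ⟨i, hi⟩ := IsPGroup.iff_orderOf.1 P.2 ⟨(q : G), hq⟩
    rw [← orderOf_coe, orderOf_coe q] at hi
    have hd : orderOf (q : W ⧸ M) ∣ p ^ i := hi ▸ orderOf_map_dvd (QuotientGroup.mk' M) q
    have hd2 : orderOf (q : W ⧸ M) ∣ M.index := by
      rw [index_eq_card]; exact orderOf_dvd_natCard _
    have h1 : orderOf (q : W ⧸ M) = M.index :=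
      ((Nat.dvd_prime hidx).1 hd2).resolve_left fun e =>
        hqM ((QuotientGroup.eq_one_iff q).1 (orderOf_eq_one_iff.1 e))
    exact (Nat.prime_dvd_prime_iff_eq hidx hp).1 (hidx.dvd_of_dvd_pow (h1 ▸ hd))
  have hWp : IsPGroup p W := IsPGroup.of_card (n := j + 1) (by
    rw [← M.card_mul_index, hj, hidxp, pow_succ])
  exact (P.3 hWp hPW).le

/-- The main theorem: centralisers are abelian. -/
theorem ca_of_sn : ∀ (n : ℕ) (G : Type u) [Group G] [Finite G], Nat.card G = n → IsSimpleGroup G →
    (¬ ∀ a b : G, a * b = b * a) → SN G → CfsgLib.CASimple.CA G := by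
  intro n
  induction n using Nat.strong_induction_on with
  | _ n ih =>
  intro G _ _ hn hsimple hna hsn
  have hGna : ¬ Ab (⊤ : Subgroup G) := fun h => hna (ab_top.1 h)
  have hcenter : center G = ⊥ :=
    ((inferInstance : (center G).Normal).eq_bot_or_eq_top).resolve_right fun e =>
      hna fun a b => (mem_center_iff.1 (e.ge (mem_top a)) b).symm
  -- abelian normal subgroups of prime index
  have hstruct : ∀ H : Subgroup G, H ≠ ⊤ → ¬ Ab H → ∀ A : Subgroup H, A.Normal → Ab A → A ≠ ⊥ →
      ∃ M : Subgroup H, M.Normal ∧ Ab M ∧ M.index.Prime := by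
    intro H hH hHna A hAn hA hA1
    haveI := hAn
    refine exists_ab_prime_index (hsn.subgroup H) ?_ ?_ A hA hA1
    · intro M _ hM1 hs hq
      refine ih _ ?_ (H ⧸ M) rfl hs hq ((hsn.subgroup H).quotient M)
      rw [← hn]
      calc Nat.card (H ⧸ M) ≤ Nat.card H := Nat.card_le_card_of_surjective _ QuotientGroup.mk_surjective
        _ < Nat.card G := lt_of_le_of_ne (card_le_card_group H) fun e => hH (eq_top_of_card_eq H e)
    · exact fun h => hHna fun a ha b hb => congrArg Subtype.val (h ⟨a, ha⟩ ⟨b, hb⟩)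
  -- a non-abelian centraliser: self-normalising Sylow subgroup or cyclic one
  have hcases : ∀ x : G, x ≠ 1 → ¬ Ab (centralizer ({x} : Set G)) →
      ∃ r : ℕ, r.Prime ∧ (IsPGroup r (centralizer ({x} : Set G)) ∨
        ∀ [Fact r.Prime] (R : Sylow r (centralizer ({x} : Set G))), IsCyclic (R : Subgroup ↥(centralizer ({x} : Set G))) ∧
          (⟨x, mem_centralizer_singleton_iff.2 rfl⟩ : centralizer ({x} : Set G)) ∈ (R : Subgroup ↥(centralizer ({x} : Set G))) ∧
          normalizer ((R : Subgroup ↥(centralizer ({x} : Set G))) : Set (centralizer ({x} : Set G))) = (R : Subgroup ↥(centralizer ({x} : Set G)))) := by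
    intro x hx hC
    set C := centralizer ({x} : Set G)
    have hCtop : C ≠ ⊤ := fun e => hx (mem_bot.1 (hcenter ▸ mem_center_iff.2 fun g =>
      mem_centralizer_singleton_iff.1 (e.ge (mem_top g))))
    set x' : C := ⟨x, mem_centralizer_singleton_iff.2 rfl⟩
    have hxc : x' ∈ center C := mem_center_iff.2 fun c =>
      Subtype.ext (mem_centralizer_singleton_iff.1 c.2)
    have hab : Ab (zpowers x') := fun a ha b hb => by
      obtain ⟨i, rfl⟩ := mem_zpowers_iff.1 ha
      obtain ⟨j, rfl⟩ := mem_zpowers_iff.1 hb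
      rw [← zpow_add, ← zpow_add, add_comm]
    obtain ⟨M, hMn, hM, hidx⟩ := hstruct C hCtop hC (zpowers x') (zpowers_normal_of_center hxc) hab
      (zpowers_ne_bot.2 fun e => hx (congrArg Subtype.val e))
    refine ⟨M.index, hidx, or_iff_not_imp_left.2 fun hnp _ R => ?_⟩
    haveI := hMn
    exact central_case (hsn.subgroup C) M hM rfl
      (fun h => hC fun a ha b hb => congrArg Subtype.val (h ⟨a, ha⟩ ⟨b, hb⟩)) hnp hxc R
  -- non-abelian Sylow subgroups contain the centralisers of their central elements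
  have hsylow : ∀ (p : ℕ) [Fact p.Prime] (P : Sylow p G), ¬ Ab (P : Subgroup G) →
      ∀ z ∈ (P : Subgroup G), z ≠ 1 → (∀ q ∈ (P : Subgroup G), q * z = z * q) →
        centralizer ({z} : Set G) = (P : Subgroup G) := by
    intro p _ P hP z hz hz1 hzc
    set C := centralizer ({z} : Set G)
    have hPC : (P : Subgroup G) ≤ C := fun q hq => mem_centralizer_singleton_iff.2 (hzc q hq)
    obtain ⟨r, hr, hcase⟩ := hcases z hz1 fun h => hP (h.mono hPC)
    haveI := Fact.mk hr
    obtain ⟨k, hk⟩ := P.2.exists_card_eq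
    have hk0 : k ≠ 0 := by
      intro e
      rw [e, pow_zero] at hk
      exact hz1 (mem_bot.1 ((card_eq_one.1 hk) ▸ hz))
    rcases hcase with hp | hcy
    · have hrp : r = p := by
        obtain ⟨j, hj⟩ := hp.exists_card_eq
        have h1 : p ∣ r ^ j := hj ▸ ((dvd_pow_self p hk0).trans (hk ▸ card_dvd_of_le hPC))
        exact ((Nat.prime_dvd_prime_iff_eq Fact.out hr).1 ((Fact.out : p.Prime).dvd_of_dvd_pow h1)).symm
      subst hrp
      exact P.3 hp hPC
    · exfalso
      obtain ⟨R⟩ : Nonempty (Sylow r C) := inferInstance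
      obtain ⟨-, hzR, -⟩ := hcy R
      have hrp : r = p := by
        obtain ⟨j, hj⟩ := IsPGroup.iff_orderOf.1 R.2 ⟨_, hzR⟩
        obtain ⟨i, hi⟩ := IsPGroup.iff_orderOf.1 P.2 ⟨z, hz⟩
        rw [← orderOf_coe, ← orderOf_coe] at hj
        rw [← orderOf_coe] at hi
        have h1 : r ^ j = p ^ i := hj.symm.trans hi
        have hj0 : j ≠ 0 := fun e => hz1 (orderOf_eq_one_iff.1 (by rw [e, pow_zero] at hj; exact hj))
        have h2 : r ∣ p ^ i := h1 ▸ dvd_pow_self r hj0
        exact (Nat.prime_dvd_prime_iff_eq hr Fact.out).1 (hr.dvd_of_dvd_pow h2)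
      subst hrp
      obtain ⟨hc, -, -⟩ := hcy (P.subtype hPC)
      refine hP fun a ha b hb => ?_
      obtain ⟨g, hg⟩ := hc.exists_generator
      obtain ⟨i, hi⟩ := mem_zpowers_iff.1 (hg ⟨⟨a, hPC ha⟩, ha⟩)
      obtain ⟨j, hj⟩ := mem_zpowers_iff.1 (hg ⟨⟨b, hPC hb⟩, hb⟩)
      have h1 : g ^ i * g ^ j = g ^ j * g ^ i := by rw [← zpow_add, ← zpow_add, add_comm]
      rw [hi, hj] at h1
      exact congrArg (fun w => ((w : C) : G)) (congrArg Subtype.val h1)
  -- so all centralisers are abelian or the centralisers of such elements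
  have habP : ∀ (p : ℕ) [Fact p.Prime] (P : Sylow p G), Ab (P : Subgroup G) := by
    intro p _ P
    by_contra hP
    set Z := (center (P : Subgroup G)).map (P : Subgroup G).subtype with hZdef
    have hZmem : ∀ {z : G}, z ∈ Z ↔ z ∈ (P : Subgroup G) ∧ ∀ q ∈ (P : Subgroup G), q * z = z * q := by
      intro z
      constructor
      · rintro ⟨w, hw, rfl⟩
        exact ⟨w.2, fun q hq => congrArg Subtype.val (mem_center_iff.1 hw ⟨q, hq⟩)⟩
      · rintro ⟨hz, hzc⟩
        exact ⟨⟨z, hz⟩, mem_center_iff.2 fun q => Subtype.ext (hzc q q.2), rfl⟩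
    haveI : Nontrivial (P : Subgroup G) := nontrivial_iff_ne_bot _ |>.2 fun e => hP fun a ha b hb => by
      rw [e, mem_bot] at ha hb; rw [ha, hb]
    haveI := P.2.center_nontrivial
    obtain ⟨⟨z₀, hz₀⟩, hz₀1⟩ := exists_ne (1 : center (P : Subgroup G))
    have hZ1 : Z ≠ ⊥ := fun e => hz₀1 (Subtype.ext (Subtype.ext
      (mem_bot.1 (e ▸ mem_map_of_mem _ hz₀))))
    have hPtop : (P : Subgroup G) ≠ ⊤ := fun e => by
      refine hZ1 ((eq_bot_iff_forall _).2 fun z hz => mem_bot.1 (hcenter ▸ mem_center_iff.2 fun g => ?_))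
      exact (hZmem.1 hz).2 g (e.ge (mem_top g))
    by_cases hweak : Cfsg.IsWeaklyClosed Z P
    · -- fusion is controlled by the normaliser of the centre, which is the Sylow subgroup
      have hNP : normalizer (Z : Set G) ≤ (P : Subgroup G) := by
        have hPN : (P : Subgroup G) ≤ normalizer (Z : Set G) := fun q hq =>
          mem_normalizer_of_conj_le fun z hz => by
            rw [(hZmem.1 hz).2 q hq, mul_inv_cancel_right]; exact hz
        set W := normalizer (Z : Set G)
        have hWtop : W ≠ ⊤ := fun e => by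
          rcases ((normalizer_eq_top_iff (H := Z)).1 e).eq_bot_or_eq_top with h | h
          · exact hZ1 h
          · exact hPtop (eq_top_iff.2 (h ▸ map_subtype_le _))
        haveI : (Z.subgroupOf W).Normal := normal_in_normalizer
        obtain ⟨M, hMn, hM, hidx⟩ := hstruct W hWtop (fun h => hP (h.mono hPN)) (Z.subgroupOf W)
          inferInstance
          (fun a ha b hb => Subtype.ext ((hZmem.1 (mem_subgroupOf.1 hb)).2 a
            ((hZmem.1 (mem_subgroupOf.1 ha)).1)))
          (fun e => hZ1 (by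
            have h1 := disjoint_iff.1 (subgroupOf_eq_bot.1 e)
            rwa [inf_eq_left.2 le_normalizer] at h1))
        haveI := hMn
        obtain ⟨z, hz, hz1⟩ : ∃ z ∈ Z, z ≠ 1 := by
          by_contra hc
          push Not at hc
          exact hZ1 ((eq_bot_iff_forall _).2 hc)
        exact sylow_of_struct P hP hPN M hM hidx (fun z hz => (hZmem.1 hz).1) hz
          (hsylow p P hP z (hZmem.1 hz).1 hz1 (hZmem.1 hz).2)
          (fun g hg z hz => (mem_normalizer_iff.1 hg z).1 hz)
      have hfoc : (P : Subgroup G).focalSubgroup ≤ ⁅(P : Subgroup G), (P : Subgroup G)⁆ :=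
        CfsgLib.Transfer.focalSubgroup_le_of_controls fun x hx g hg => by
          obtain ⟨k, hk, hke⟩ := CfsgLib.Transfer.weaklyClosed_controls P Z
            (fun z hz => mem_centralizer_iff.2 fun q hq => (hZmem.1 hz).2 q hq) hweak x hx g hg
          exact ⟨k, hNP hk, hke⟩
      rw [← commutator_inf_eq_focalSubgroup P] at hfoc
      have htopG : _root_.commutator G = ⊤ :=
        ((inferInstance : (_root_.commutator G).Normal).eq_bot_or_eq_top).resolve_left fun e =>
          hna fun a b => commutatorElement_eq_one_iff_mul_comm.1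
            (mem_bot.1 (e ▸ commutator_mem_commutator (mem_top a) (mem_top b)))
      rw [htopG, top_inf_eq] at hfoc
      haveI := P.2.isNilpotent
      haveI : Group.IsSolvable (P : Subgroup G) := inferInstance
      have hlt := Group.IsSolvable.commutator_lt_top_of_nontrivial (P : Subgroup G)
      refine hlt.ne (eq_top_iff.2 fun q _ => ?_)
      have h1 := hfoc q.2
      rw [← map_subtype_commutator] at h1
      exact (mem_map_iff_mem (subtype_injective _)).1 h1
    · -- a central element has a conjugate in the Sylow subgroup outside the centre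
      obtain ⟨g, c, hcZ, hcP, hcn⟩ : ∃ (g c : G), c ∈ Z ∧ g * c * g⁻¹ ∈ (P : Subgroup G) ∧
          g * c * g⁻¹ ∉ Z := by
        by_contra hc
        push Not at hc
        refine hweak ⟨fun z hz => (hZmem.1 hz).1, fun g hg => ?_⟩
        refine eq_of_le_of_card_ge ?_ ?_
        · rintro _ ⟨w, hw, rfl⟩
          exact hc g w hw (hg ⟨w, hw, rfl⟩)
        · exact (card_map_of_injective (K := Z) (f := (MulAut.conj g).toMonoidHom)
            (MulAut.conj g).injective).ge
      set c' := g * c * g⁻¹
      have hc1 : c' ≠ 1 := fun e => hcn (e ▸ one_mem Z)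
      haveI := P.2.isNilpotent
      set B := zpowers c' ⊔ Z
      have hBP : B ≤ (P : Subgroup G) := sup_le (zpowers_le.2 hcP) fun z hz => (hZmem.1 hz).1
      have hBab : Ab B := by
        have hle : B ≤ centralizer (B : Set G) := by
          refine sup_le (zpowers_le.2 (mem_centralizer_iff.2 fun b hb => ?_))
            fun z hz => mem_centralizer_iff.2 fun b hb => (hZmem.1 hz).2 b (hBP hb)
          have h1 : B ≤ centralizer ({c'} : Set G) := sup_le
            (zpowers_le.2 (mem_centralizer_singleton_iff.2 rfl))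
            fun z hz => mem_centralizer_singleton_iff.2 ((hZmem.1 hz).2 c' hcP).symm
          exact mem_centralizer_singleton_iff.1 (h1 hb)
        exact fun a ha b hb => (mem_centralizer_iff.1 (hle hb) a ha)
      obtain ⟨A', hA', hBA⟩ := (eq_top_or_exists_le_coatom (B.subgroupOf (P : Subgroup G))).resolve_left
        fun e => hP (hBab.mono (subgroupOf_eq_top.1 e))
      haveI : A'.Normal := NormalizerCondition.normal_of_coatom A'
        Group.normalizerCondition_of_isNilpotent hA'
      set A := A'.map (P : Subgroup G).subtype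
      have hAP : A ≤ (P : Subgroup G) := map_subtype_le _
      have hPA : (P : Subgroup G) ≤ normalizer (A : Set G) := fun q hq =>
        mem_normalizer_of_conj_le fun w hw => by
          obtain ⟨v, hv, rfl⟩ := hw
          exact ⟨⟨q, hq⟩ * v * ⟨q, hq⟩⁻¹, (inferInstance : A'.Normal).conj_mem v hv _, rfl⟩
      have hAab : Ab A := hsn.ab_of_normal hAP hPA fun e => hA'.1 (eq_top_iff.2 fun w _ => by
        have h1 : (w : G) ∈ A := e.ge w.2
        exact (mem_map_iff_mem (subtype_injective _)).1 h1)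
      have hBleA : B ≤ A := fun b hb => ⟨⟨b, hBP hb⟩, hBA (mem_subgroupOf.2 hb), rfl⟩
      have hc'A : c' ∈ A := hBleA (mem_sup_left (mem_zpowers c'))
      set P' : Sylow p G := g • P
      have hP'mem : ∀ w, w ∈ (P : Subgroup G) → g * w * g⁻¹ ∈ (P' : Subgroup G) := fun w hw => by
        rw [show (P' : Subgroup G) = _ from Sylow.coe_subgroup_smul]
        exact smul_mem_pointwise_smul _ (MulAut.conj g) _ hw
      have hP'na : ¬ Ab (P' : Subgroup G) := fun h => hP fun a ha b hb => by
        have h1 := h _ (hP'mem a ha) _ (hP'mem b hb)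
        have e : g * (a * b) * g⁻¹ = g * (b * a) * g⁻¹ := by
          calc g * (a * b) * g⁻¹ = g * a * g⁻¹ * (g * b * g⁻¹) := by group
            _ = g * b * g⁻¹ * (g * a * g⁻¹) := h1
            _ = g * (b * a) * g⁻¹ := by group
        exact mul_left_cancel (mul_right_cancel e)
      have hcentral' : ∀ q ∈ (P' : Subgroup G), q * c' = c' * q := by
        intro q hq
        rw [show (P' : Subgroup G) = _ from Sylow.coe_subgroup_smul] at hq
        obtain ⟨w, hw, rfl⟩ := hq
        show g * w * g⁻¹ * (g * c * g⁻¹) = g * c * g⁻¹ * (g * w * g⁻¹)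
        calc g * w * g⁻¹ * (g * c * g⁻¹) = g * (w * c) * g⁻¹ := by group
          _ = g * (c * w) * g⁻¹ := by rw [(hZmem.1 hcZ).2 w hw]
          _ = _ := by group
      have hCc : centralizer ({c'} : Set G) = (P' : Subgroup G) :=
        hsylow p P' hP'na c' (hP'mem c (hZmem.1 hcZ).1) hc1 hcentral'
      have hAP' : A ≤ (P' : Subgroup G) := fun a ha =>
        hCc.le (mem_centralizer_singleton_iff.2 (hAab a ha c' hc'A))
      have hcoat : IsCoatom (A.subgroupOf (P' : Subgroup G)) := by
        have hcP' : Nat.card (P' : Subgroup G) = Nat.card (P : Subgroup G) := Nat.card_congr (P'.equiv P).toEquiv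
        have hAc : Nat.card A = Nat.card A' := card_map_of_injective (subtype_injective _)
        have hidx : (A.subgroupOf (P' : Subgroup G)).index = A'.index := by
          have h1 := (A.subgroupOf (P' : Subgroup G)).card_mul_index
          have h2 := A'.card_mul_index
          rw [Nat.card_congr (subgroupOfEquivOfLe hAP').toEquiv, hAc, hcP', ← h2] at h1
          exact Nat.eq_of_mul_eq_mul_left Nat.card_pos h1
        have hpr : A'.index.Prime := prime_index_of_coatom A' hA'
        refine ⟨fun e => ?_, fun L hL => ?_⟩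
        · rw [e, index_top] at hidx; rw [← hidx] at hpr; exact Nat.not_prime_one hpr
        · have h1 := relIndex_mul_index hL.le
          rw [hidx] at h1
          rcases (Nat.dvd_prime hpr).1 (h1 ▸ dvd_mul_left _ _ : L.index ∣ A'.index) with h2 | h2
          · exact index_eq_one.1 h2
          · exfalso
            rw [h2] at h1
            have h3 : (A.subgroupOf (P' : Subgroup G)).relIndex L = 1 :=
              Nat.eq_of_mul_eq_mul_right hpr.pos (by rw [h1, one_mul])
            exact hL.not_ge (relIndex_eq_one.1 h3)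
      haveI : (A.subgroupOf (P' : Subgroup G)).Normal := by
        haveI := P'.2.isNilpotent
        exact NormalizerCondition.normal_of_coatom _ Group.normalizerCondition_of_isNilpotent hcoat
      have hP'A : (P' : Subgroup G) ≤ normalizer (A : Set G) :=
        (normal_subgroupOf_iff_le_normalizer hAP').1 inferInstance
      have hA1 : A ≠ ⊥ := fun e => hc1 (mem_bot.1 (e ▸ hc'A))
      have hWtop : normalizer (A : Set G) ≠ ⊤ := fun e => by
        rcases ((normalizer_eq_top_iff (H := A)).1 e).eq_bot_or_eq_top with h | h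
        · exact hA1 h
        · exact hPtop (eq_top_iff.2 (h ▸ hAP))
      haveI : (A.subgroupOf (normalizer (A : Set G))).Normal := normal_in_normalizer
      obtain ⟨M, hMn, hM, hidx⟩ := hstruct _ hWtop (fun h => hP (h.mono hPA))
        (A.subgroupOf (normalizer (A : Set G))) inferInstance
        (fun a ha b hb => Subtype.ext (hAab a (mem_subgroupOf.1 ha) b (mem_subgroupOf.1 hb)))
        (fun e => hA1 (by
          have h1 := disjoint_iff.1 (subgroupOf_eq_bot.1 e)
          rwa [inf_eq_left.2 le_normalizer] at h1))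
      have hZA : Z ≤ A := fun z hz => hBleA (mem_sup_right hz)
      haveI := hMn
      obtain ⟨z, hz, hz1⟩ : ∃ z ∈ Z, z ≠ 1 := by
        by_contra hc
        push Not at hc
        exact hZ1 ((eq_bot_iff_forall _).2 hc)
      have hWP : normalizer (A : Set G) ≤ (P : Subgroup G) :=
        sylow_of_struct P hP hPA M hM hidx hAP (hZA hz)
          (hsylow p P hP z (hZmem.1 hz).1 hz1 (hZmem.1 hz).2)
          (fun g hg z hz => (mem_normalizer_iff.1 hg z).1 hz)
      have hPP : (P : Subgroup G) = (P' : Subgroup G) := P'.3 P.2 (hP'A.trans hWP)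
      exact hcn (hZmem.2 ⟨hcP, fun q hq => hcentral' q (hPP.le hq)⟩)
  intro x hx a ha b hb
  by_contra hne
  set C := centralizer ({x} : Set G)
  have hC : ¬ Ab C := fun h => hne (h a ha b hb)
  obtain ⟨r, hr, hcase⟩ := hcases x hx hC
  haveI := Fact.mk hr
  rcases hcase with hp | hcy
  · obtain ⟨P, hP⟩ := hsn.sylow_of_pGroup hp hC
    exact hC fun a ha b hb => habP r P a (hP.ge ha) b (hP.ge hb)
  · obtain ⟨R⟩ : Nonempty (Sylow r C) := inferInstance
    obtain ⟨hcyc, hxR, hnR⟩ := hcy R
    set R₀ := (R : Subgroup C).map C.subtype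
    have hR₀C : R₀ ≤ C := map_subtype_le _
    have hxR₀ : x ∈ R₀ := ⟨_, hxR, rfl⟩
    obtain ⟨P, hP⟩ := (R.2.map C.subtype : IsPGroup r R₀).exists_le_sylow
    have hPC : (P : Subgroup G) ≤ C := fun q hq =>
      mem_centralizer_singleton_iff.2 (habP r P q hq x (hP hxR₀))
    have hR₀P : R₀ = (P : Subgroup G) := by
      refine le_antisymm hP fun q hq => ?_
      have h1 : R = P.subtype hPC := Sylow.ext ((R.3 (P.subtype hPC).2
        fun w hw => mem_subgroupOf.2 (hP ⟨w, hw, rfl⟩)).symm)
      refine ⟨⟨q, hPC hq⟩, ?_, rfl⟩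
      rw [h1]
      exact hq
    haveI : IsCyclic (P : Subgroup G) := hR₀P ▸
      isCyclic_of_surjective (equivMapOfInjective (R : Subgroup C) C.subtype (subtype_injective _))
        (equivMapOfInjective (R : Subgroup C) C.subtype (subtype_injective _)).surjective
    -- `⟨x⟩` is normalised only by `C`
    have hNx : normalizer (zpowers x : Set G) ≤ C := by
      have hCn : normalizer (zpowers x : Set G) ≤ normalizer (C : Set G) := fun w hw =>
        mem_normalizer_of_conj_le fun v hv => mem_centralizer_singleton_iff.2 (by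
          have h1 : w⁻¹ * x * w ∈ zpowers x := by
            have := (mem_normalizer_iff''.1 hw x).1 (mem_zpowers x)
            exact this
          obtain ⟨j, hj⟩ := mem_zpowers_iff.1 h1
          have hvx : v * x ^ j = x ^ j * v :=
            ((show Commute v x from mem_centralizer_singleton_iff.1 hv).zpow_right j).eq
          calc w * v * w⁻¹ * x = w * (v * (w⁻¹ * x * w)) * w⁻¹ := by group
            _ = w * ((w⁻¹ * x * w) * v) * w⁻¹ := by rw [← hj, hvx]
            _ = x * (w * v * w⁻¹) := by group)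
      rw [hsn C hC] at hCn
      exact hCn
    have hNP : normalizer ((P : Subgroup G) : Set G) ≤ centralizer ((P : Subgroup G) : Set G) := by
      intro w hw
      have hwx : w ∈ normalizer (zpowers x : Set G) := by
        set X := (zpowers x).map (MulAut.conj w).toMonoidHom
        have hX : X ≤ (P : Subgroup G) := by
          rintro _ ⟨v, hv, rfl⟩
          exact (mem_normalizer_iff.1 hw v).1 (zpowers_le.2 (hP hxR₀) hv)
        have heq : X.subgroupOf (P : Subgroup G) = (zpowers x).subgroupOf (P : Subgroup G) := by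
          refine eq_of_card_eq_of_cyclic ?_
          rw [Nat.card_congr (subgroupOfEquivOfLe hX).toEquiv,
            Nat.card_congr (subgroupOfEquivOfLe (zpowers_le.2 (hP hxR₀))).toEquiv,
            card_map_of_injective (MulAut.conj w).injective]
        refine mem_normalizer_of_conj_le fun v hv => ?_
        have h1 : (⟨w * v * w⁻¹, hX ⟨v, hv, rfl⟩⟩ : (P : Subgroup G)) ∈ X.subgroupOf (P : Subgroup G) :=
          mem_subgroupOf.2 ⟨v, hv, rfl⟩
        rw [heq] at h1
        exact mem_subgroupOf.1 h1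
      have hwC : w ∈ C := hNx hwx
      have hwR : (⟨w, hwC⟩ : C) ∈ normalizer ((R : Subgroup C) : Set C) := by
        have hmemR : ∀ v : C, v ∈ (R : Subgroup C) ↔ (v : G) ∈ (P : Subgroup G) := fun v => by
          rw [← hR₀P]
          exact ⟨fun h => ⟨v, h, rfl⟩, fun ⟨v', hv', e⟩ => by rwa [show v = v' from Subtype.ext e.symm]⟩
        refine mem_normalizer_iff.2 fun v => ?_
        rw [hmemR, hmemR]
        exact mem_normalizer_iff.1 hw (v : G)
      rw [hnR] at hwR
      exact mem_centralizer_iff.2 fun q hq =>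
        habP r P q hq w (hR₀P ▸ (⟨⟨w, hwC⟩, hwR, rfl⟩ : w ∈ R₀))
    rcases CfsgLib.Transfer.simple_of_hasNormalPComplement
        (CfsgLib.Transfer.hasNormalPComplement_of_normalizer_le P hNP) with hnd | hpG
    · obtain ⟨k, hk⟩ := P.2.exists_card_eq
      rcases Nat.eq_zero_or_pos k with rfl | hk0
      · rw [pow_zero] at hk
        exact hx (mem_bot.1 (card_eq_one.1 hk ▸ hP hxR₀))
      · exact hnd ((dvd_pow_self r hk0.ne').trans (hk ▸ (P : Subgroup G).card_subgroup_dvd_card))
    · exact hna (comm_of_simple_pGroup hpG)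

end CfsgLib.SelfNorm15
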