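import Cfsg.Agent.Lib.SelfNorm.Cent

/-!
# Non-abelian subgroups of `SL(2, 2^n)` are self-normalising exactly when `2^n - 1` is prime
-/

set_option autoImplicit false
set_option linter.style.haveILetI false
set_option linter.unusedSectionVars false

noncomputable section

namespace CfsgLib.SelfNorm15

open Subgroup CfsgLib.CASimple
open scoped Matrix commutatorElement

universe u v

theorem SN.of_equiv {A : Type u} {B : Type v} [Group A] [Group B] (h : SN A) (e : A ≃* B) : SN B := by
  intro H hH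
  have hH' : ¬ Ab (H.comap e.toMonoidHom) := fun hc => hH fun a ha b hb => by
    have h1 := congrArg e (hc (e.symm a) (by simpa using ha) (e.symm b) (by simpa using hb))
    simpa using h1
  refine le_antisymm (fun b hb => ?_) le_normalizer
  have h1 : e.symm b ∈ normalizer ((H.comap e.toMonoidHom : Subgroup A) : Set A) :=
    mem_normalizer_iff.2 fun a => by
      have h2 := mem_normalizer_iff.1 hb (e a)
      simpa using h2
  rw [h _ hH'] at h1
  simpa using h1

variable {F : Type} [Field F] [Fintype F] [CharP F 2]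

local notation "SLF" => Matrix.SpecialLinearGroup (Fin 2) F

/-- Without centre the projective group is the linear one. -/
def pslEquiv : Matrix.ProjectiveSpecialLinearGroup (Fin 2) F ≃* SLF :=
  (QuotientGroup.quotientMulEquivOfEq (center_sl_eq_bot (F := F))).trans QuotientGroup.quotientBot

theorem ca_sl : CA SLF := ca_of_ct fun a b c ha hb hc hab hbc => by
  have h := ct_psl (F := F) (pslEquiv.symm a) (pslEquiv.symm b) (pslEquiv.symm c)
    (by simpa using ha) (by simpa using hb) (by simpa using hc) (hab.map pslEquiv.symm)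
    (hbc.map pslEquiv.symm)
  simpa using h.map pslEquiv

/-- Upper triangular, first diagonal entry in the given set of units. -/
def borel (S : Subgroup Fˣ) : Subgroup SLF where
  carrier := {M | M.1 1 0 = 0 ∧ ∃ s ∈ S, (s : F) = M.1 0 0}
  one_mem' := ⟨by simp, 1, one_mem S, by simp⟩
  mul_mem' := by
    rintro M N ⟨hM, s, hs, hsM⟩ ⟨hN, t, ht, htN⟩
    refine ⟨?_, s * t, mul_mem hs ht, ?_⟩
    · simp [Matrix.mul_apply, Fin.sum_univ_two, hM, hN]
    · simp [Matrix.mul_apply, Fin.sum_univ_two, hN, hsM, htN]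
  inv_mem' := by
    rintro M ⟨hM, s, hs, hsM⟩
    refine ⟨?_, s⁻¹, inv_mem hs, ?_⟩
    · simp [Matrix.adjugate_fin_two, hM]
    · have hd := M.2
      rw [Matrix.det_fin_two, hM, mul_zero, sub_zero] at hd
      rw [Matrix.SpecialLinearGroup.coe_inv, Matrix.adjugate_fin_two]
      simp only [Units.val_inv_eq_inv_val, Matrix.of_apply, Matrix.cons_val', Matrix.cons_val_zero,
        Matrix.cons_val_fin_one]
      exact inv_eq_of_mul_eq_one_right (by rw [hsM]; exact hd)

/-- The diagonal matrix. -/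
def dg (t : Fˣ) : SLF := ⟨!![(t : F), 0; 0, (t⁻¹ : Fˣ)], by simp [Matrix.det_fin_two]⟩

/-- The transvection. -/
def tv : SLF := ⟨!![(1 : F), 1; 0, 1], by simp [Matrix.det_fin_two]⟩

theorem dg_coe (t : Fˣ) : (dg t).1 = !![(t : F), 0; 0, (t⁻¹ : Fˣ)] := rfl

theorem tv_coe : (tv : SLF).1 = !![(1 : F), 1; 0, 1] := rfl

theorem unit_sq_eq_one {s : Fˣ} (h : (s : F) * s = 1) : s = 1 := by
  refine Units.ext ?_
  have h2 : ((s : F) - 1) ^ 2 = 0 := by
    linear_combination h + (1 - (s : F)) * (CharTwo.two_eq_zero (R := F))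
  exact sub_eq_zero.1 (pow_eq_zero_iff (n := 2) two_ne_zero |>.1 h2)

theorem dg_mem {S : Subgroup Fˣ} {t : Fˣ} (ht : t ∈ S) : dg t ∈ borel S :=
  ⟨by simp [dg_coe], t, ht, by simp [dg_coe]⟩

theorem tv_mem (S : Subgroup Fˣ) : (tv : SLF) ∈ borel S := ⟨by simp [tv_coe], 1, one_mem S, by simp [tv_coe]⟩

theorem not_ab_borel {S : Subgroup Fˣ} (hS : S ≠ ⊥) : ¬ Ab (borel S) := by
  intro hab
  obtain ⟨s, hs, hs1⟩ : ∃ s ∈ S, s ≠ 1 := by
    by_contra hc
    push Not at hc
    exact hS ((eq_bot_iff_forall _).2 hc)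
  have h := congrArg (fun M : SLF => M.1 0 1) (hab _ (dg_mem hs) _ (tv_mem S))
  simp [dg_coe, tv_coe, Matrix.SpecialLinearGroup.coe_mul, Matrix.mul_apply, Fin.sum_univ_two] at h
  refine hs1 (unit_sq_eq_one ?_)
  calc (s : F) * s = (s : F) * (s : F)⁻¹ := congrArg ((s : F) * ·) h
    _ = 1 := mul_inv_cancel₀ s.ne_zero

/-- In a self-normalising group of this kind the multiplicative group has prime order. -/
theorem prime_of_sn (hsn : SN SLF) (hq : 4 ≤ Fintype.card F) : (Fintype.card F - 1).Prime := by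
  by_contra hnp
  have hU : Nat.card Fˣ = Fintype.card F - 1 := by
    rw [Nat.card_units, Nat.card_eq_fintype_card]
  obtain ⟨d, hd, hdvd⟩ := Nat.exists_prime_and_dvd (n := Nat.card Fˣ) (by omega)
  haveI := Fact.mk hd
  obtain ⟨s, hs⟩ := exists_prime_orderOf_dvd_card' (G := Fˣ) d hdvd
  set S := zpowers s
  have hS : S ≠ ⊥ := zpowers_ne_bot.2 fun e => by
    rw [e, orderOf_one] at hs; exact hd.one_lt.ne hs
  have hself := hsn _ (not_ab_borel hS)
  refine hnp ?_
  rw [← hU]
  have htop : S = ⊤ := eq_top_iff.2 fun t _ => by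
    have hn : dg t ∈ normalizer ((borel S : Subgroup SLF) : Set SLF) := by
      refine mem_normalizer_of_conj_le ?_
      rintro M ⟨hM, u, hu, huM⟩
      refine ⟨?_, u, hu, ?_⟩
      · simp [dg_coe, Matrix.SpecialLinearGroup.coe_mul, Matrix.SpecialLinearGroup.coe_inv, Matrix.mul_apply, Matrix.vecMul, dotProduct, Fin.sum_univ_two, Matrix.adjugate_fin_two, hM]
      · simp [dg_coe, Matrix.SpecialLinearGroup.coe_mul, Matrix.SpecialLinearGroup.coe_inv, Matrix.mul_apply, Matrix.vecMul, dotProduct, Fin.sum_univ_two, Matrix.adjugate_fin_two, hM, huM]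
        field_simp
    rw [hself] at hn
    obtain ⟨-, u, hu, hut⟩ := hn
    have : u = t := Units.ext (by simpa [dg_coe] using hut)
    exact this ▸ hu
  rw [← card_top (G := Fˣ), ← htop, Nat.card_zpowers, hs]
  exact hd

theorem nonscalar {a : SLF} (ha : a ≠ 1) :
    ¬ (a.1 0 1 = 0 ∧ a.1 1 0 = 0 ∧ a.1 0 0 = a.1 1 1) := by
  rintro ⟨h1, h2, h3⟩
  refine ha (Subtype.ext ?_)
  have hd := a.2
  rw [Matrix.det_fin_two, h1, zero_mul, sub_zero, ← h3] at hd
  have h4 : a.1 0 0 = 1 := by
    have h5 : (a.1 0 0 - 1) ^ 2 = 0 := by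
      linear_combination hd + (1 - a.1 0 0) * (CharTwo.two_eq_zero (R := F))
    exact sub_eq_zero.1 (pow_eq_zero_iff (n := 2) two_ne_zero |>.1 h5)
  ext i j
  fin_cases i <;> fin_cases j <;> simp [h1, h2, ← h3, h4]

/-- A matrix commuting with a non-scalar one is a combination of it and the identity. -/
theorem exists_comb {a b : SLF} (ha : a ≠ 1) (h : b * a = a * b) :
    ∃ x y : F, b.1 = x • (1 : Matrix (Fin 2) (Fin 2) F) + y • a.1 := by
  have h' : b.1 * a.1 = a.1 * b.1 := congrArg Subtype.val h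
  have e00 := congrFun (congrFun h' 0) 0
  have e01 := congrFun (congrFun h' 0) 1
  have e10 := congrFun (congrFun h' 1) 0
  simp only [Matrix.mul_apply, Fin.sum_univ_two] at e00 e01 e10
  by_cases hc : a.1 1 0 = 0
  · by_cases hb : a.1 0 1 = 0
    · have hd : a.1 0 0 ≠ a.1 1 1 := fun e => nonscalar ha ⟨hb, hc, e⟩
      have hd' : a.1 0 0 - a.1 1 1 ≠ 0 := sub_ne_zero.2 hd
      have h01 : b.1 0 1 = 0 := by
        refine (mul_eq_zero.1 (?_ : b.1 0 1 * (a.1 0 0 - a.1 1 1) = 0)).resolve_right hd'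
        rw [hb] at e01; linear_combination -e01
      have h10 : b.1 1 0 = 0 := by
        refine (mul_eq_zero.1 (?_ : b.1 1 0 * (a.1 0 0 - a.1 1 1) = 0)).resolve_right hd'
        rw [hc] at e10; linear_combination e10
      refine ⟨b.1 0 0 - (b.1 0 0 - b.1 1 1) / (a.1 0 0 - a.1 1 1) * a.1 0 0,
        (b.1 0 0 - b.1 1 1) / (a.1 0 0 - a.1 1 1), ?_⟩
      ext i j
      fin_cases i <;> fin_cases j <;> simp [hb, hc, h01, h10]
      field_simp
      ring
    · refine ⟨b.1 0 0 - b.1 0 1 / a.1 0 1 * a.1 0 0, b.1 0 1 / a.1 0 1, ?_⟩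
      ext i j
      fin_cases i <;> fin_cases j <;> simp
      · field_simp
      · rw [hc] at e00
        field_simp
        linear_combination -e00 - (b.1 0 1) * hc
      · field_simp
        linear_combination -e01
  · refine ⟨b.1 0 0 - b.1 1 0 / a.1 1 0 * a.1 0 0, b.1 1 0 / a.1 1 0, ?_⟩
    ext i j
    fin_cases i <;> fin_cases j <;> simp
    · field_simp
      linear_combination e00
    · field_simp
    · field_simp
      linear_combination e10

theorem trace_conj (n a : SLF) : (n * a * n⁻¹).1.trace = a.1.trace := by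
  rw [Matrix.SpecialLinearGroup.coe_mul, Matrix.trace_mul_comm, ← Matrix.SpecialLinearGroup.coe_mul,
    ← mul_assoc, inv_mul_cancel, one_mul]

/-- Conjugates of an element inside its centraliser. -/
theorem conj_cases {a n : SLF} (ha : a ≠ 1) (hb : n * a * n⁻¹ * a = a * (n * a * n⁻¹)) :
    (a.1.trace ≠ 0 → n * a * n⁻¹ = a ∨ n * a * n⁻¹ = a⁻¹) ∧
    (a.1.trace = 0 → ∃ y : F, y ≠ 0 ∧
      (n * a * n⁻¹).1 = (1 + y) • (1 : Matrix (Fin 2) (Fin 2) F) + y • a.1) := by
  obtain ⟨x, y, he⟩ := exists_comb ha hb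
  have h2 := CharTwo.two_eq_zero (R := F)
  have ht := trace_conj n a
  rw [he, Matrix.trace_add, Matrix.trace_smul, Matrix.trace_smul, Matrix.trace_one,
    Fintype.card_fin] at ht
  simp only [smul_eq_mul, Nat.cast_ofNat, h2, mul_zero, zero_add] at ht
  have hd := (n * a * n⁻¹).2
  rw [he] at hd
  have hda := a.2
  rw [Matrix.det_fin_two] at hda hd
  simp only [Matrix.add_apply, Matrix.smul_apply, Matrix.one_apply, smul_eq_mul, Fin.zero_eq_one_iff,
    if_pos, OfNat.ofNat_ne_one, if_neg, not_false_iff, one_ne_zero, mul_one, mul_zero, zero_add,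
    Fin.one_eq_zero_iff] at hd
  have htr : a.1.trace = a.1 0 0 + a.1 1 1 := Matrix.trace_fin_two _
  have hq : x ^ 2 + x * y * a.1.trace + y ^ 2 = 1 := by
    rw [htr]; linear_combination hd - y ^ 2 * hda
  refine ⟨fun hne => ?_, fun h0 => ⟨y, ?_, ?_⟩⟩
  · have hy : y = 1 := mul_right_cancel₀ hne (by rw [ht, one_mul])
    subst hy
    have hx : x * (x + a.1.trace) = 0 := by linear_combination hq
    rcases mul_eq_zero.1 hx with h | h
    · left
      exact Subtype.ext (by rw [he, h, zero_smul, zero_add, one_smul])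
    · right
      refine Subtype.ext ?_
      have hxt : x = a.1.trace := by linear_combination h - a.1.trace * h2
      rw [he, Matrix.SpecialLinearGroup.coe_inv, Matrix.adjugate_fin_two, hxt, htr]
      ext i j
      fin_cases i <;> fin_cases j <;> simp
      · linear_combination (a.1 0 0) * h2
      · linear_combination (a.1 0 1) * h2
      · linear_combination (a.1 1 0) * h2
      · linear_combination (a.1 1 1) * h2
  · rintro rfl
    refine ha ?_
    have hx : x = 1 := by
      have h5 : (x - 1) ^ 2 = 0 := by linear_combination hq + (1 - x) * h2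
      exact sub_eq_zero.1 (pow_eq_zero_iff (n := 2) two_ne_zero |>.1 h5)
    have h1 : n * a * n⁻¹ = 1 := Subtype.ext (by rw [he, hx, zero_smul, add_zero, one_smul, Matrix.SpecialLinearGroup.coe_one])
    exact conj_eq_one_iff.1 h1
  · have h5 : (x - (1 + y)) ^ 2 = 0 := by
      rw [h0] at hq
      linear_combination hq + (-x * (1 + y) + y + 1) * h2
    rw [he, sub_eq_zero.1 (pow_eq_zero_iff (n := 2) two_ne_zero |>.1 h5)]

/-- The automiser of a maximal abelian subgroup is trivial or of prime order. -/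
theorem relIndex_cases (hp : (Fintype.card F - 1).Prime) {a : SLF} (ha : a ≠ 1) :
    (centralizer ({a} : Set SLF)).relIndex (normalizer (centralizer ({a} : Set SLF) : Set SLF)) = 1 ∨
    ((centralizer ({a} : Set SLF)).relIndex
      (normalizer (centralizer ({a} : Set SLF) : Set SLF))).Prime := by
  classical
  set T := centralizer ({a} : Set SLF)
  set W := normalizer (T : Set SLF)
  have hconj : ∀ n : W, (n : SLF) * a * (n : SLF)⁻¹ * a = a * ((n : SLF) * a * (n : SLF)⁻¹) := fun n =>
    mem_centralizer_singleton_iff.1 ((mem_normalizer_iff.1 n.2 a).1 (CASimple.self_mem a))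
  have hker : ∀ n : W, (n : SLF) * a * (n : SLF)⁻¹ = a ↔ n ∈ T.subgroupOf W := fun n => by
    rw [mem_subgroupOf, mem_centralizer_singleton_iff, mul_inv_eq_iff_eq_mul]
  by_cases h0 : a.1.trace = 0
  · choose y hy hye using fun n : W => (conj_cases ha (hconj n)).2 h0
    have huniq : ∀ {s t : F}, (1 + s) • (1 : Matrix (Fin 2) (Fin 2) F) + s • a.1 =
        (1 + t) • (1 : Matrix (Fin 2) (Fin 2) F) + t • a.1 → s = t := by
      intro s t h
      by_contra hne
      have hst : s - t ≠ 0 := sub_ne_zero.2 hne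
      have e00 := congrFun (congrFun h 0) 0
      have e01 := congrFun (congrFun h 0) 1
      have e10 := congrFun (congrFun h 1) 0
      have e11 := congrFun (congrFun h 1) 1
      simp at e00 e01 e10 e11
      refine nonscalar ha ⟨?_, ?_, ?_⟩
      · exact e01.resolve_left hne
      · exact e10.resolve_left hne
      · refine mul_left_cancel₀ hst ?_
        linear_combination e00 - e11
    let χ : W →* Fˣ :=
      { toFun := fun n => Units.mk0 (y n) (hy n)
        map_one' := Units.ext (huniq (by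
          simp only [Units.val_mk0, Units.val_one]
          rw [← hye 1]
          simp [CharTwo.add_self_eq_zero]))
        map_mul' := fun n m => Units.ext (huniq (by
          simp only [Units.val_mk0, Units.val_mul]
          rw [← hye (n * m)]
          show ((n : SLF) * m * a * ((n : SLF) * m)⁻¹).1 = _
          rw [show (n : SLF) * m * a * ((n : SLF) * m)⁻¹ =
            (n : SLF) * ((m : SLF) * a * (m : SLF)⁻¹) * (n : SLF)⁻¹ by group,
            Matrix.SpecialLinearGroup.coe_mul, Matrix.SpecialLinearGroup.coe_mul, hye m,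
            Matrix.mul_add, Matrix.add_mul, Matrix.mul_smul, Matrix.smul_mul, Matrix.mul_one,
            Matrix.mul_smul, Matrix.smul_mul, ← Matrix.SpecialLinearGroup.coe_mul, mul_inv_cancel,
            Matrix.SpecialLinearGroup.coe_one, ← Matrix.SpecialLinearGroup.coe_mul, ← Matrix.SpecialLinearGroup.coe_mul,
            hye n]
          simp only [Units.val_mul, Units.val_mk0, smul_add, smul_smul, ← add_assoc, ← add_smul]
          congr 2
          · linear_combination (y m) * (CharTwo.two_eq_zero (R := F))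
          · ring)) }
    have hχ : χ.ker = T.subgroupOf W := by
      ext n
      rw [MonoidHom.mem_ker, ← hker]
      constructor
      · intro h
        refine Subtype.ext ?_
        rw [hye n, show y n = 1 from congrArg Units.val h]
        simp [CharTwo.add_self_eq_zero]
      · intro h
        refine Units.ext (huniq ?_)
        show (1 + y n) • (1 : Matrix (Fin 2) (Fin 2) F) + y n • a.1 = _
        rw [← hye n, h]
        simp [CharTwo.add_self_eq_zero]
    have hd : T.relIndex W ∣ Fintype.card F - 1 := by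
      show (T.subgroupOf W).index ∣ _
      rw [← hχ, index_ker]
      have := χ.range.card_subgroup_dvd_card
      rwa [Nat.card_units, Nat.card_eq_fintype_card (α := F)] at this
    rcases (Nat.dvd_prime hp).1 hd with h | h
    · exact Or.inl h
    · exact Or.inr (h ▸ hp)
  · have hle : T.relIndex W ≤ 2 := by
      show (T.subgroupOf W).index ≤ 2
      rw [index_eq_card]
      let Φ : W ⧸ T.subgroupOf W → ({a, a⁻¹} : Finset SLF) := fun c =>
        ⟨(c.out : SLF) * a * (c.out : SLF)⁻¹, by
          rcases (conj_cases ha (hconj c.out)).1 h0 with h | h <;> simp [h]⟩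
      have hΦ : Function.Injective Φ := by
        intro c d h
        have h1 : (c.out : SLF) * a * (c.out : SLF)⁻¹ = (d.out : SLF) * a * (d.out : SLF)⁻¹ :=
          congrArg Subtype.val h
        rw [← c.out_eq', ← d.out_eq', QuotientGroup.eq, ← hker, Subgroup.coe_mul,
          InvMemClass.coe_inv]
        calc (c.out : SLF)⁻¹ * d.out * a * ((c.out : SLF)⁻¹ * d.out)⁻¹
            = (c.out : SLF)⁻¹ * ((d.out : SLF) * a * (d.out : SLF)⁻¹) * c.out := by group
          _ = a := by rw [← h1]; group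
      refine (Nat.card_le_card_of_injective Φ hΦ).trans ?_
      rw [Nat.card_eq_fintype_card, Fintype.card_coe]
      exact Finset.card_le_two
    have hpos : T.relIndex W ≠ 0 := index_ne_zero_of_finite
    rcases (show T.relIndex W = 1 ∨ T.relIndex W = 2 by omega) with h | h
    · exact Or.inl h
    · exact Or.inr (by rw [h]; exact Nat.prime_two)

/-- Two elements of the normaliser commute modulo the maximal abelian subgroup. -/
theorem commutator_mem (hp : (Fintype.card F - 1).Prime) {a g h : SLF} (ha : a ≠ 1)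
    (hg : g ∈ normalizer (centralizer ({a} : Set SLF) : Set SLF))
    (hh : h ∈ normalizer (centralizer ({a} : Set SLF) : Set SLF)) :
    ⁅g, h⁆ ∈ centralizer ({a} : Set SLF) := by
  set T := centralizer ({a} : Set SLF)
  set W := normalizer (T : Set SLF)
  haveI : (T.subgroupOf W).Normal := normal_in_normalizer
  have hcomm : ∀ c d : W ⧸ T.subgroupOf W, c * d = d * c := by
    have hcard : Nat.card (W ⧸ T.subgroupOf W) = T.relIndex W := (index_eq_card _).symm
    rcases relIndex_cases hp ha with h1 | h1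
    · rw [h1] at hcard
      obtain ⟨hsub, -⟩ := Nat.card_eq_one_iff_unique.1 hcard
      exact fun c d => Subsingleton.elim _ _
    · haveI := Fact.mk h1
      haveI := isCyclic_of_prime_card hcard
      exact fun c d => mul_comm' c d
  have h2 : ((⁅(⟨g, hg⟩ : W), ⟨h, hh⟩⁆ : W) : W ⧸ T.subgroupOf W) = 1 := by
    show QuotientGroup.mk' (T.subgroupOf W) _ = 1
    rw [map_commutatorElement]
    exact commutatorElement_eq_one_iff_mul_comm.2 (hcomm _ _)
  exact mem_subgroupOf.1 ((QuotientGroup.eq_one_iff _).1 h2)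

theorem simple_of_min {G : Type u} [Group G] [Finite G] (hCA : CA G)
    (hcm : ∀ k : G, k ≠ 1 → ∀ u ∈ normalizer (centralizer ({k} : Set G) : Set G),
      ∀ w ∈ normalizer (centralizer ({k} : Set G) : Set G), ⁅u, w⁆ ∈ centralizer ({k} : Set G))
    {H N : Subgroup G} (hNH : N ≤ H) (hHN : H ≤ normalizer (N : Set G)) (hN1 : N ≠ ⊥)
    (hmin : ∀ N' : Subgroup G, N' ≤ H → H ≤ normalizer (N' : Set G) → N' ≠ ⊥ → N' ≤ N → N ≤ N')
    (hA : ∀ A : Subgroup G, A ≤ H → H ≤ normalizer (A : Set G) → Ab A → A = ⊥) :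
    IsSimpleGroup N := by
  haveI hNn : Nontrivial N := nontrivial_iff_ne_bot _ |>.2 hN1
  have hNna : ¬ Ab N := fun h => hN1 (hA N hNH hHN h)
  refine ⟨fun K hK => ?_⟩
  by_contra hcon
  rw [not_or] at hcon
  obtain ⟨K, ⟨hKn, hK1⟩, hKmin⟩ := Set.Finite.exists_minimal
    (Set.toFinite {K : Subgroup N | K.Normal ∧ K ≠ ⊥}) ⟨K, hK, hcon.1⟩
  have hKtop : K ≠ ⊤ := by
      intro e
      subst e
      exact hcon.2 (eq_top_iff.2 (hKmin ⟨hK, hcon.1⟩ le_top))
  set K' := K.map N.subtype with hK'
  have hK'N : K' ≤ N := map_subtype_le _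
  have hK'1 : K' ≠ ⊥ := fun e => hK1 ((map_eq_bot_iff_of_injective _ (subtype_injective _)).1 e)
  have hNK' : ∀ n ∈ N, ∀ k ∈ K', n * k * n⁻¹ ∈ K' := by
    rintro n hn _ ⟨k, hk, rfl⟩
    exact ⟨⟨n, hn⟩ * k * ⟨n, hn⟩⁻¹, hKn.conj_mem k hk _, rfl⟩
  obtain ⟨x, hxH, hx⟩ : ∃ x ∈ H, ∃ k ∈ K', x * k * x⁻¹ ∉ K' := by
    by_contra hc
    push Not at hc
    have h1 : N ≤ K' := hmin _ (hK'N.trans hNH)
      (fun x hx => mem_normalizer_of_conj_le fun k hk => hc x hx k hk) hK'1 hK'N
    exact hKtop (eq_top_iff.2 fun n _ => (mem_map_iff_mem (subtype_injective _)).1 (h1 n.2))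
  obtain ⟨k₀, hk₀, hk₀'⟩ := hx
  -- the conjugate of `K`
  have hconj : ∀ k ∈ K', x * k * x⁻¹ ∈ N := fun k hk =>
    (mem_normalizer_iff.1 (hHN hxH) k).1 (hK'N hk)
  set L : Subgroup N := (K'.map (MulAut.conj x).toMonoidHom).subgroupOf N
  have hLmem : ∀ n : N, n ∈ L ↔ ∃ k ∈ K', x * k * x⁻¹ = (n : G) := fun n => Iff.rfl
  haveI hLn : L.Normal := ⟨fun l hl n => by
    obtain ⟨k, hk, hkl⟩ := (hLmem l).1 hl
    have hn' : x⁻¹ * (n : G) * x ∈ N := (mem_normalizer_iff''.1 (hHN hxH) n).1 n.2
    refine (hLmem _).2 ⟨_, hNK' _ hn' k hk, ?_⟩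
    show _ = (n : G) * l * (n : G)⁻¹
    rw [← hkl]; group⟩
  have hdis : K ⊓ L = ⊥ := by
    by_contra hne
    have hle : K ≤ K ⊓ L := hKmin ⟨inferInstance, hne⟩ inf_le_left
    have hKL : K ≤ L := hle.trans inf_le_right
    have heq : K' = K'.map (MulAut.conj x).toMonoidHom :=
      eq_of_le_of_card_ge (fun k hk => by
        obtain ⟨k, hk', rfl⟩ := hk
        exact hKL hk') (card_map_of_injective (MulAut.conj x).injective).le
    exact hk₀' (heq.ge ⟨k₀, hk₀, rfl⟩)
  have hcomm : ∀ k ∈ K', ∀ l ∈ K', k * (x * l * x⁻¹) = x * l * x⁻¹ * k := by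
    intro k hk l hl
    obtain ⟨k, hk', rfl⟩ := hk
    exact congrArg Subtype.val (commute_of_normal_of_disjoint K L hKn hLn (disjoint_iff.2 hdis)
      k ⟨_, hconj l hl⟩ hk' ((hLmem _).2 ⟨l, hl, rfl⟩))
  obtain ⟨k, hk, hk1⟩ : ∃ k ∈ K', k ≠ 1 := by
    by_contra hc
    push Not at hc
    exact hK'1 ((eq_bot_iff_forall _).2 hc)
  have hK'ab : Ab K' := fun u hu w hw => by
    have h1 := hCA k hk1 _ (mem_centralizer_singleton_iff.2 (hcomm k hk u hu).symm) _
      (mem_centralizer_singleton_iff.2 (hcomm k hk w hw).symm)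
    refine mul_left_cancel (a := x) (mul_right_cancel (b := x⁻¹) ?_)
    calc x * (u * w) * x⁻¹ = x * u * x⁻¹ * (x * w * x⁻¹) := by group
      _ = x * w * x⁻¹ * (x * u * x⁻¹) := h1
      _ = x * (w * u) * x⁻¹ := by group
  have hkT : k ∈ centralizer ({k} : Set G) := CASimple.self_mem k
  have hNW : ∀ n ∈ N, n ∈ normalizer (centralizer ({k} : Set G) : Set G) := fun n hn =>
    mem_normalizer_of_conj hCA hk1 hkT hk1
      (mem_centralizer_singleton_iff.2 (hK'ab _ (hNK' n hn k hk) k hk))
  have hDT : ⁅N, N⁆ ≤ centralizer ({k} : Set G) :=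
    commutator_le.2 fun u hu w hw => hcm k hk1 u (hNW u hu) w (hNW w hw)
  have hDN : ⁅N, N⁆ ≤ N :=
    commutator_le.2 fun u hu w hw => mul_mem (mul_mem (mul_mem hu hw) (inv_mem hu)) (inv_mem hw)
  have hD : ⁅N, N⁆ = ⊥ := by
    refine hA _ (hDN.trans hNH) (fun h hh => mem_normalizer_of_conj_le fun z hz => ?_)
      fun u hu w hw => hCA k hk1 u (hDT hu) w (hDT hw)
    have h1 : ⁅N, N⁆.map (MulAut.conj h).toMonoidHom ≤ ⁅N, N⁆ := by
      rw [map_commutator]
      have h2 : N.map (MulAut.conj h).toMonoidHom ≤ N := by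
        rintro _ ⟨n, hn, rfl⟩
        exact (mem_normalizer_iff.1 (hHN hh) n).1 hn
      exact commutator_mono h2 h2
    exact h1 ⟨z, hz, rfl⟩
  exact hNna fun u hu w hw => commutatorElement_eq_one_iff_mul_comm.1
    (mem_bot.1 (hD ▸ commutator_mem_commutator hu hw))

theorem card_field_eq (hp : (Fintype.card F - 1).Prime) {F' : Type} [Field F'] [Fintype F']
    [CharP F' 2] {f : ℕ} (hf : 2 ≤ f) (hcard : Fintype.card F' = 2 ^ f)
    (φ : Matrix.SpecialLinearGroup (Fin 2) F' →* SLF) (hφ : Function.Injective φ) :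
    Fintype.card F' = Fintype.card F := by
  classical
  have hCA := ca_sl (F := F)
  obtain ⟨γ, hγ⟩ := IsCyclic.exists_ofOrder_eq_natCard (α := F'ˣ)
  rw [Nat.card_units, Nat.card_eq_fintype_card, hcard] at hγ
  have hq' : 4 ≤ 2 ^ f := by
    calc 4 = 2 ^ 2 := by norm_num
      _ ≤ 2 ^ f := Nat.pow_le_pow_right (by norm_num) hf
  have hγ2 : (γ : F') * γ ≠ 1 := fun e' => by
    have h1 := unit_sq_eq_one e'
    rw [h1, orderOf_one] at hγ
    omega
  set u := φ (tv (F := F')) with hu
  set s := φ (dg γ) with hs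
  have hu1 : u ≠ 1 := fun e' => by
    have h1 : (tv : Matrix.SpecialLinearGroup (Fin 2) F') = 1 := hφ (e'.trans (map_one φ).symm)
    have h2 := congrArg (fun M : Matrix.SpecialLinearGroup (Fin 2) F' => M.1 0 1) h1
    simp [tv_coe] at h2
  have hu2 : u * u = 1 := by
    rw [hu, ← map_mul, ← map_one φ]
    congr 1
    ext i j
    fin_cases i <;> fin_cases j <;> simp [tv_coe, CharTwo.add_self_eq_zero]
  have htr : u.1.trace = 0 := by
    have h1 : u.1 * u.1 = 1 := congrArg Subtype.val hu2
    have e00 := congrFun (congrFun h1 0) 0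
    have e11 := congrFun (congrFun h1 1) 1
    simp [Matrix.mul_apply, Fin.sum_univ_two] at e00 e11
    have hd := u.2
    rw [Matrix.det_fin_two] at hd
    rw [Matrix.trace_fin_two]
    have h3 : (u.1 0 0 + u.1 1 1) ^ 2 = 0 := by
      linear_combination e00 + e11 + 2 * hd + (2 : F) * (CharTwo.two_eq_zero (R := F))
    exact pow_eq_zero_iff (n := 2) two_ne_zero |>.1 h3
  set T := centralizer ({u} : Set SLF)
  have hsT : s * u * s⁻¹ ∈ T := by
    refine mem_centralizer_singleton_iff.2 ?_
    rw [hu, hs, ← map_inv, ← map_mul, ← map_mul, ← map_mul, ← map_mul]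
    congr 1
    ext i j
    fin_cases i <;> fin_cases j <;>
      simp [tv_coe, dg_coe, Matrix.SpecialLinearGroup.coe_mul, Matrix.SpecialLinearGroup.coe_inv, Matrix.adjugate_fin_two, Matrix.mul_apply, Fin.sum_univ_two] <;> ring
  have hsW : s ∈ normalizer (T : Set SLF) :=
    mem_normalizer_of_conj hCA hu1 (CASimple.self_mem u) hu1 hsT
  have hsnT : s ∉ T := fun hc => by
    have h1 : (dg γ : Matrix.SpecialLinearGroup (Fin 2) F') * tv = tv * dg γ :=
      hφ (by rw [map_mul, map_mul]; exact mem_centralizer_singleton_iff.1 hc)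
    have h2 := congrArg (fun M : Matrix.SpecialLinearGroup (Fin 2) F' => M.1 0 1) h1
    simp [tv_coe, dg_coe, Matrix.SpecialLinearGroup.coe_mul, Matrix.mul_apply, Fin.sum_univ_two] at h2
    refine hγ2 ?_
    calc (γ : F') * γ = (γ : F') * (γ : F')⁻¹ := congrArg ((γ : F') * ·) h2
      _ = 1 := mul_inv_cancel₀ γ.ne_zero
  have hdgo : orderOf (dg γ) = 2 ^ f - 1 := by
    let D : F'ˣ →* Matrix.SpecialLinearGroup (Fin 2) F' :=
      { toFun := dg
        map_one' := by ext i j; fin_cases i <;> fin_cases j <;> simp [dg_coe]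
        map_mul' := fun b c => by
          ext i j
          fin_cases i <;> fin_cases j <;> simp [dg_coe, Matrix.mul_apply, Fin.sum_univ_two, mul_comm] }
    have hD : Function.Injective D := fun b c h => Units.ext (by
      have := congrArg (fun M : Matrix.SpecialLinearGroup (Fin 2) F' => M.1 0 0) h
      simpa [D, dg_coe] using this)
    rw [show dg γ = D γ from rfl, orderOf_injective D hD, hγ]
  have hso : orderOf s = 2 ^ f - 1 := by rw [hs, orderOf_injective φ hφ, hdgo]
  have hrel : T.relIndex (normalizer (T : Set SLF)) ∣ Fintype.card F - 1 := by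
    rcases relIndex_cases hp hu1 with h1 | h1
    · rw [h1]; exact one_dvd _
    · -- the index is the order of the image of `s`
      haveI : (T.subgroupOf (normalizer (T : Set SLF))).Normal := normal_in_normalizer
      by_contra hnd
      obtain ⟨y, hy, hye⟩ : ∃ y : F, y ≠ 0 ∧
          (s * u * s⁻¹).1 = (1 + y) • (1 : Matrix (Fin 2) (Fin 2) F) + y • u.1 :=
        (conj_cases hu1 (mem_centralizer_singleton_iff.1 hsT)).2 htr
      have hiter : ∀ i : ℕ, (s ^ i * u * (s ^ i)⁻¹).1 =
          (1 + y ^ i) • (1 : Matrix (Fin 2) (Fin 2) F) + y ^ i • u.1 := by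
        intro i
        induction i with
        | zero => simp [CharTwo.add_self_eq_zero]
        | succ i ih =>
          rw [show s ^ (i + 1) * u * (s ^ (i + 1))⁻¹ = s * (s ^ i * u * (s ^ i)⁻¹) * s⁻¹ by
              rw [pow_succ']; group,
            Matrix.SpecialLinearGroup.coe_mul, Matrix.SpecialLinearGroup.coe_mul, ih,
            Matrix.mul_add, Matrix.add_mul, Matrix.mul_smul, Matrix.smul_mul, Matrix.mul_one,
            Matrix.mul_smul, Matrix.smul_mul, ← Matrix.SpecialLinearGroup.coe_mul, mul_inv_cancel,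
            Matrix.SpecialLinearGroup.coe_one, ← Matrix.SpecialLinearGroup.coe_mul, ← Matrix.SpecialLinearGroup.coe_mul,
            hye]
          simp only [smul_add, smul_smul, ← add_assoc, ← add_smul, pow_succ]
          congr 2
          linear_combination (y ^ i) * (CharTwo.two_eq_zero (R := F))
      have hu' : s ^ (Fintype.card F - 1) * u * (s ^ (Fintype.card F - 1))⁻¹ = u :=
        Subtype.ext (by
          rw [hiter, FiniteField.pow_card_sub_one_eq_one y hy]
          simp [CharTwo.add_self_eq_zero])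
      set c := (((⟨s, hsW⟩ : normalizer (T : Set SLF)) :
        normalizer (T : Set SLF) ⧸ T.subgroupOf (normalizer (T : Set SLF))))
      have hc : c ^ (Fintype.card F - 1) = 1 := by
        rw [← QuotientGroup.mk_pow, QuotientGroup.eq_one_iff, mem_subgroupOf]
        exact mem_centralizer_singleton_iff.2 (mul_inv_eq_iff_eq_mul.1 hu')
      have hc1 : c ≠ 1 := fun e' =>
        hsnT (mem_subgroupOf.1 ((QuotientGroup.eq_one_iff _).1 e'))
      haveI := Fact.mk h1
      refine hnd ?_
      have h2 : orderOf c ∣ T.relIndex (normalizer (T : Set SLF)) := by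
        show _ ∣ (T.subgroupOf (normalizer (T : Set SLF))).index
        rw [index_eq_card]; exact orderOf_dvd_natCard _
      have h3 := ((Nat.dvd_prime h1).1 h2).resolve_left fun e' => hc1 (orderOf_eq_one_iff.1 e')
      exact h3 ▸ orderOf_dvd_of_pow_eq_one hc
  have hpow : s ^ (Fintype.card F - 1) ∈ T := by
    haveI : (T.subgroupOf (normalizer (T : Set SLF))).Normal := normal_in_normalizer
    obtain ⟨m, hm⟩ := hrel
    have h1 := (T.subgroupOf (normalizer (T : Set SLF))).pow_index_mem
      (⟨s, hsW⟩ : normalizer (T : Set SLF))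
    have h2 := pow_mem (mem_subgroupOf.1 h1) m
    rw [Subgroup.coe_pow, ← pow_mul] at h2
    rw [hm]
    exact h2
  have hexp2 : ∀ w ∈ T, w * w = 1 := by
    intro w hw
    obtain ⟨x, y, he⟩ := exists_comb hu1 (mem_centralizer_singleton_iff.1 hw)
    have h1 : u.1 * u.1 = 1 := congrArg Subtype.val hu2
    have hsqe : w.1 * w.1 = (x ^ 2 + y ^ 2) • (1 : Matrix (Fin 2) (Fin 2) F) := by
      rw [he]
      simp only [Matrix.add_mul, Matrix.mul_add, Matrix.smul_mul, Matrix.mul_smul, Matrix.one_mul,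
        Matrix.mul_one, h1, smul_add, smul_smul]
      ext i j
      simp only [Matrix.add_apply, Matrix.smul_apply, smul_eq_mul]
      linear_combination (x * y * u.1 i j) * (CharTwo.two_eq_zero (R := F))
    refine Subtype.ext ?_
    show w.1 * w.1 = 1
    have hd := congrArg Matrix.det hsqe
    rw [Matrix.det_mul, w.2, Matrix.det_smul, Matrix.det_one, Fintype.card_fin, one_mul,
      mul_one] at hd
    have h5 : x ^ 2 + y ^ 2 = 1 := by
      have h6 : (x ^ 2 + y ^ 2 - 1) ^ 2 = 0 := by
        linear_combination -hd + (1 - (x ^ 2 + y ^ 2)) * (CharTwo.two_eq_zero (R := F))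
      exact sub_eq_zero.1 (pow_eq_zero_iff (n := 2) two_ne_zero |>.1 h6)
    rw [hsqe, h5, one_smul]
  have hord : orderOf s = Fintype.card F - 1 := by
    have h1 : orderOf s ∣ (Fintype.card F - 1) * 2 := orderOf_dvd_of_pow_eq_one (by
      rw [pow_mul, pow_two]; exact hexp2 _ hpow)
    have hodd : Nat.Coprime (orderOf s) 2 := by
      rw [hso, Nat.coprime_two_right]
      exact Nat.Even.sub_odd (by omega) ((Nat.even_pow).2 ⟨even_two, by omega⟩) odd_one
    refine ((Nat.dvd_prime hp).1 (hodd.dvd_of_dvd_mul_right h1)).resolve_left ?_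
    rw [hso]
    omega
  rw [hcard]
  rw [hso] at hord
  have : 1 ≤ Fintype.card F := Fintype.card_pos
  omega

theorem top_of_simple_sub (hp : (Fintype.card F - 1).Prime) (N : Subgroup SLF) [IsSimpleGroup N]
    (hNna : ¬ Ab N) : N = ⊤ := by
  classical
  have hCA := ca_sl (F := F)
  have hNCA : CA N := fun x hx u hu w hw => Subtype.ext
    (hCA x (fun e => hx (Subtype.ext e)) u
      (mem_centralizer_singleton_iff.2 (congrArg Subtype.val (mem_centralizer_singleton_iff.1 hu))) w
      (mem_centralizer_singleton_iff.2 (congrArg Subtype.val (mem_centralizer_singleton_iff.1 hw))))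
  obtain ⟨F', iF, iF', f, hf, hcard, ⟨e⟩⟩ := exists_psl_of_ca hNCA
    fun hc => hNna fun u hu w hw => congrArg Subtype.val (hc ⟨u, hu⟩ ⟨w, hw⟩)
  haveI : Fact (Nat.Prime 2) := ⟨Nat.prime_two⟩
  haveI : CharP F' 2 := charP_of_card_eq_prime_pow hcard
  let φ : Matrix.SpecialLinearGroup (Fin 2) F' →* SLF :=
    N.subtype.comp ((pslEquiv (F := F')).symm.trans e.symm).toMonoidHom
  have hφ : Function.Injective φ := (subtype_injective N).comp (MulEquiv.injective _)
  have hφN : ∀ z, φ z ∈ N := fun z => SetLike.coe_mem _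
  have hcards := card_field_eq hp hf hcard φ hφ
  let ρ := FiniteField.ringEquivOfCardEq hcards
  have hle : Nat.card SLF ≤ Nat.card N := by
    refine (Nat.card_le_card_of_injective
      (Matrix.SpecialLinearGroup.map (n := Fin 2) (ρ.symm : F →+* F')) ?_).trans
      (Nat.card_le_card_of_injective (fun z => (⟨φ z, hφN z⟩ : N))
        fun z w h => hφ (congrArg Subtype.val h))
    intro M M' h
    ext i j
    have := congrArg (fun X : Matrix.SpecialLinearGroup (Fin 2) F' => X.1 i j) h
    exact ρ.symm.injective (by simpa using this)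
  exact eq_top_of_le_card N hle

theorem case_two (hp : (Fintype.card F - 1).Prime) {H : Subgroup SLF} (hH : ¬ Ab H) {g : SLF}
    (hA : ∀ A : Subgroup SLF, A ≤ H → H ≤ normalizer (A : Set SLF) → Ab A → A = ⊥) : g ∈ H := by
  classical
  have hCA := ca_sl (F := F)
  obtain ⟨N, ⟨hNH, hHN, hN1⟩, hmin⟩ := Set.Finite.exists_minimal
    (Set.toFinite {N : Subgroup SLF | N ≤ H ∧ H ≤ normalizer (N : Set SLF) ∧ N ≠ ⊥})
    ⟨H, le_rfl, le_normalizer, fun e => hH fun u hu w hw => by
      rw [e, mem_bot] at hu hw; rw [hu, hw]⟩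
  have hNna : ¬ Ab N := fun h => hN1 (hA N hNH hHN h)
  haveI := simple_of_min hCA (fun k hk u hu w hw => commutator_mem hp hk hu hw) hNH hHN hN1
    (fun N' h1 h2 h3 h4 => hmin ⟨h1, h2, h3⟩ h4) hA
  exact hNH ((top_of_simple_sub hp N hNna).ge (mem_top g))

/-- With `q - 1` prime every non-abelian subgroup is self-normalising. -/
theorem sn_of_prime (hp : (Fintype.card F - 1).Prime) : SN SLF := by
  classical
  intro H hH
  have hCA := ca_sl (F := F)
  refine le_antisymm (fun g hg => ?_) le_normalizer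
  by_cases hA : ∃ A : Subgroup SLF, A ≤ H ∧ H ≤ normalizer (A : Set SLF) ∧ Ab A ∧ A ≠ ⊥
  · obtain ⟨A, hAH, hHA, hab, hA1⟩ := hA
    obtain ⟨a, haA, ha⟩ : ∃ a ∈ A, a ≠ 1 := by
      by_contra hc
      push Not at hc
      exact hA1 ((eq_bot_iff_forall _).2 hc)
    set T := centralizer ({a} : Set SLF)
    have hAT : ∀ b ∈ A, b ∈ T := fun b hb => mem_centralizer_singleton_iff.2 (hab b hb a haA)
    have hHW : ∀ h ∈ H, h ∈ normalizer (T : Set SLF) := fun h hh =>
      mem_normalizer_of_conj hCA ha (hAT a haA) ha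
        (hAT _ ((mem_normalizer_iff.1 (hHA hh) a).1 haA))
    obtain ⟨h, hhH, hhT⟩ : ∃ h ∈ H, h ∉ T := by
      by_contra hc
      push Not at hc
      exact hH fun u hu w hw => hCA a ha u (hc u hu) w (hc w hw)
    -- the conjugate of `A` lies in `T`
    have hga : g * a * g⁻¹ ∈ T := by
      by_contra hb
      set b := g * a * g⁻¹
      have hbH : b ∈ H := (mem_normalizer_iff.1 hg a).1 (hAH haA)
      -- `b` lies in the conjugate of `A`, which is normalised by `H`
      have hbA : ∀ e, e ∈ A → g * e * g⁻¹ ∈ T → e = 1 := by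
        intro e he heT
        by_contra he1
        have he1' : g * e * g⁻¹ ≠ 1 := fun e' => he1 (conj_eq_one_iff.1 e')
        have hcb : b * (g * e * g⁻¹) = g * e * g⁻¹ * b := by
          calc b * (g * e * g⁻¹) = g * (a * e) * g⁻¹ := by simp only [b]; group
            _ = g * (e * a) * g⁻¹ := by rw [hab a haA e he]
            _ = g * e * g⁻¹ * b := by simp only [b]; group
        exact hb ((cent_eq hCA ha he1' heT).le (mem_centralizer_singleton_iff.2 hcb))
      -- the commutator of `a` and `b`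
      have ha' : g⁻¹ * a * g ∈ H := (mem_normalizer_iff''.1 hg a).1 (hAH haA)
      set e := g⁻¹ * (b * a * b⁻¹ * a⁻¹) * g with hedef
      have heA : e ∈ A := by
        have e1 : e = a * ((g⁻¹ * a * g) * a⁻¹ * (g⁻¹ * a * g)⁻¹) := by
          simp only [e, b]; group
        rw [e1]
        exact mul_mem haA ((mem_normalizer_iff.1 (hHA ha') a⁻¹).1 (inv_mem haA))
      have heT : g * e * g⁻¹ ∈ T := by
        have e1 : g * e * g⁻¹ = b * a * b⁻¹ * a⁻¹ := by simp only [e]; group
        rw [e1]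
        exact mul_mem (hAT _ ((mem_normalizer_iff.1 (hHA hbH) a).1 haA)) (inv_mem (hAT a haA))
      have h1 : b * a * b⁻¹ * a⁻¹ = 1 := by
        have h2 := hbA e heA heT
        have e1 : b * a * b⁻¹ * a⁻¹ = g * e * g⁻¹ := by simp only [e]; group
        rw [e1, h2]; group
      exact hb (mem_centralizer_singleton_iff.2
        (mul_inv_eq_iff_eq_mul.1 (mul_inv_eq_one.1 h1)))
    have hgW : g ∈ normalizer (T : Set SLF) :=
      mem_normalizer_of_conj hCA ha (hAT a haA) ha hga
    -- write `g = t h ^ j`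
    set W := normalizer (T : Set SLF)
    have hprime : (T.relIndex W).Prime := (relIndex_cases hp ha).resolve_left fun e =>
      hhT (relIndex_eq_one.1 e (hHW h hhH))
    haveI : (T.subgroupOf W).Normal := normal_in_normalizer
    haveI : Fact (T.subgroupOf W).index.Prime := ⟨hprime⟩
    obtain ⟨j, hj⟩ := mem_zpowers_iff.1 (mem_zpowers_of_prime_card (G := W ⧸ T.subgroupOf W)
      (index_eq_card _).symm
      (g := ((⟨h, hHW h hhH⟩ : W) : W ⧸ T.subgroupOf W))
      (fun e => hhT (mem_subgroupOf.1 ((QuotientGroup.eq_one_iff _).1 e)))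
      (g' := ((⟨g, hgW⟩ : W) : W ⧸ T.subgroupOf W)))
    rw [← QuotientGroup.mk_zpow] at hj
    have ht : (h ^ j)⁻¹ * g ∈ T := by
      have h1 := QuotientGroup.eq.1 hj
      rw [mem_subgroupOf] at h1
      simpa using h1
    set t := (h ^ j)⁻¹ * g with htdef
    have htN : t ∈ normalizer (H : Set SLF) :=
      mul_mem (inv_mem (le_normalizer (zpow_mem hhH j))) hg
    -- the commutator map
    have hδ : ∀ u ∈ T, u * h * u⁻¹ * h⁻¹ ∈ T := fun u hu => by
      have e : u * h * u⁻¹ * h⁻¹ = u * (h * u⁻¹ * h⁻¹) := by group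
      rw [e]
      exact mul_mem hu ((mem_normalizer_iff.1 (hHW h hhH) _).1 (inv_mem hu))
    have hinj : ∀ u ∈ T, ∀ w ∈ T, u * h * u⁻¹ * h⁻¹ = w * h * w⁻¹ * h⁻¹ → u = w := by
      intro u hu w hw e
      by_contra hne
      have h1 : w⁻¹ * u ≠ 1 := fun e' => hne (inv_mul_eq_one.1 e').symm
      have h2 : w⁻¹ * u ∈ T := mul_mem (inv_mem hw) hu
      refine hhT ((cent_eq hCA ha h1 h2).le (mem_centralizer_singleton_iff.2 ?_))
      have e' : u * h * u⁻¹ = w * h * w⁻¹ := mul_right_cancel e
      calc h * (w⁻¹ * u) = w⁻¹ * (w * h * w⁻¹) * u := by group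
        _ = w⁻¹ * (u * h * u⁻¹) * u := by rw [e']
        _ = w⁻¹ * u * h := by group
    let σ : (H ⊓ T : Subgroup SLF) → (H ⊓ T : Subgroup SLF) := fun u =>
      ⟨(u : SLF) * h * (u : SLF)⁻¹ * h⁻¹, mem_inf.2
        ⟨mul_mem (mul_mem (mul_mem (mem_inf.1 u.2).1 hhH) (inv_mem (mem_inf.1 u.2).1)) (inv_mem hhH),
          hδ _ (mem_inf.1 u.2).2⟩⟩
    have hσ : Function.Surjective σ := Finite.surjective_of_injective fun u w e =>
      Subtype.ext (hinj _ (mem_inf.1 u.2).2 _ (mem_inf.1 w.2).2 (congrArg Subtype.val e))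
    obtain ⟨u, hu⟩ := hσ ⟨t * h * t⁻¹ * h⁻¹, mem_inf.2
      ⟨mul_mem ((mem_normalizer_iff.1 htN h).1 hhH) (inv_mem hhH), hδ t ht⟩⟩
    have htu : t = (u : SLF) :=
      (hinj _ (mem_inf.1 u.2).2 _ ht (congrArg Subtype.val hu)).symm
    have e : g = h ^ j * t := by rw [htdef, mul_inv_cancel_left]
    rw [e, htu]
    exact mul_mem (zpow_mem hhH j) (mem_inf.1 u.2).1
  · exact case_two hp hH fun A h1 h2 h3 => by
      by_contra h4
      exact hA ⟨A, h1, h2, h3, h4⟩


end CfsgLib.SelfNorm15
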