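import Cfsg.Agent.Lib.Transfer.NormalComplement
import Cfsg.Agent.Lib.Maximal.CASimple

/-!
# Groups in which every non-abelian subgroup is self-normalising: first facts

A non-abelian subgroup with a nontrivial abelian normal subgroup is not perfect.
-/

set_option autoImplicit false
set_option linter.style.haveILetI false
set_option linter.unusedSectionVars false

namespace CfsgLib.SelfNorm15

open Subgroup

universe u

variable {G : Type u} [Group G]

/-- A subgroup with commuting elements. -/
def Ab (H : Subgroup G) : Prop := ∀ a ∈ H, ∀ b ∈ H, a * b = b * a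

/-- Non-abelian subgroups are self-normalising. -/
def SN (G : Type u) [Group G] : Prop := ∀ H : Subgroup G, ¬ Ab H → normalizer (H : Set G) = H

theorem ab_iff (H : Subgroup G) : Ab H ↔ IsMulCommutative H := by
  constructor
  · exact fun h => ⟨⟨fun a b => Subtype.ext (h a a.2 b b.2)⟩⟩
  · exact fun h a ha b hb => congrArg Subtype.val (h.is_comm.comm ⟨a, ha⟩ ⟨b, hb⟩)

theorem ab_top : Ab (⊤ : Subgroup G) ↔ ∀ a b : G, a * b = b * a :=
  ⟨fun h a b => h a (mem_top a) b (mem_top b), fun h a _ b _ => h a b⟩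

theorem Ab.mono {H K : Subgroup G} (h : Ab K) (hle : H ≤ K) : Ab H :=
  fun a ha b hb => h a (hle ha) b (hle hb)

theorem SN.subgroup (h : SN G) (K : Subgroup G) : SN K := by
  intro L hL
  have hL' : ¬ Ab (L.map K.subtype) := fun hc => hL fun a ha b hb => Subtype.ext
    (hc _ (mem_map_of_mem K.subtype ha) _ (mem_map_of_mem K.subtype hb))
  refine le_antisymm (fun k hk => ?_) le_normalizer
  have h1 : K.subtype k ∈ normalizer ((L.map K.subtype : Subgroup G) : Set G) :=
    L.le_normalizer_map K.subtype (mem_map_of_mem K.subtype hk)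
  rw [h _ hL'] at h1
  exact (mem_map_iff_mem K.subtype_injective).1 h1

theorem SN.quotient (h : SN G) (M : Subgroup G) [M.Normal] : SN (G ⧸ M) := by
  intro L hL
  set f := QuotientGroup.mk' M
  have hf : Function.Surjective f := QuotientGroup.mk'_surjective M
  have hL' : ¬ Ab (L.comap f) := by
    intro hc
    refine hL fun a ha b hb => ?_
    obtain ⟨a, rfl⟩ := hf a
    obtain ⟨b, rfl⟩ := hf b
    rw [← map_mul, ← map_mul, hc a ha b hb]
  refine le_antisymm (fun q hq => ?_) le_normalizer
  obtain ⟨g, rfl⟩ := hf q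
  have h1 : g ∈ normalizer ((L.comap f : Subgroup G) : Set G) :=
    mem_normalizer_iff.2 fun z => by
      rw [mem_comap, mem_comap, map_mul, map_mul, map_inv]
      exact mem_normalizer_iff.1 hq (f z)
  rw [h _ hL'] at h1
  exact h1

theorem SN.ab_of_normal (h : SN G) {H N : Subgroup G} (hle : N ≤ H)
    (hn : H ≤ normalizer (N : Set G)) (hne : N ≠ H) : Ab N :=
  by_contra fun hc => hne (le_antisymm hle (hn.trans (h N hc).le))

/-- A non-abelian subgroup of prime power order is a Sylow subgroup. -/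
theorem SN.sylow_of_pGroup [Finite G] (h : SN G) {p : ℕ} [Fact p.Prime] {H : Subgroup G}
    (hp : IsPGroup p H) (hH : ¬ Ab H) : ∃ P : Sylow p G, (P : Subgroup G) = H := by
  obtain ⟨P, hP⟩ := hp.exists_le_sylow
  refine ⟨P, ?_⟩
  by_contra hne
  haveI := P.2.isNilpotent
  have hlt : H.subgroupOf (P : Subgroup G) < ⊤ := lt_of_le_of_ne le_top fun e =>
    hne (le_antisymm (subgroupOf_eq_top.1 e) hP)
  obtain ⟨-, c, hc, hcn⟩ := SetLike.lt_iff_le_and_exists.1
    (Group.normalizerCondition_of_isNilpotent _ hlt)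
  refine hcn (mem_subgroupOf.2 ((h H hH).le (mem_normalizer_iff.2 fun z => ⟨fun hz => ?_, fun hz => ?_⟩)))
  · exact (mem_normalizer_iff.1 hc ⟨z, hP hz⟩).1 hz
  · have hzP : z ∈ (P : Subgroup G) := by
      have h1 := mul_mem (mul_mem (inv_mem c.2) (hP hz)) c.2
      simpa [mul_assoc] using h1
    exact (mem_normalizer_iff.1 hc ⟨z, hzP⟩).2 hz

/-- A nontrivial simple group of prime power order is abelian. -/
theorem comm_of_simple_pGroup {Q : Type u} [Group Q] [Finite Q] [IsSimpleGroup Q] {p : ℕ}
    [Fact p.Prime] (hQ : IsPGroup p Q) : ∀ a b : Q, a * b = b * a := by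
  haveI := hQ.center_nontrivial
  intro a b
  have htop : center Q = ⊤ := ((inferInstance : (center Q).Normal).eq_bot_or_eq_top).resolve_left
    fun e => by
      obtain ⟨z, hz⟩ := exists_ne (1 : center Q)
      exact hz (Subtype.ext (by
        exact mem_bot.1 (e.le z.2)))
  exact (mem_center_iff.1 (htop ▸ mem_top a) b).symm

/-- A finite group whose derived subgroup is proper has a normal subgroup of prime index. -/
theorem exists_prime_index {H : Type u} [Group H] [Finite H] (h : commutator H ≠ ⊤) :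
    ∃ M : Subgroup H, M.Normal ∧ M.index.Prime := by
  classical
  obtain ⟨M, hM, hle⟩ := (eq_top_or_exists_le_coatom (commutator H)).resolve_left h
  have hn : M.Normal := ⟨fun m hm g => by
    have h1 : g * m * g⁻¹ * m⁻¹ ∈ M := hle (commutator_mem_commutator (mem_top g) (mem_top m))
    have h2 := mul_mem h1 hm
    rwa [inv_mul_cancel_right] at h2⟩
  refine ⟨M, hn, ?_⟩
  set f := QuotientGroup.mk' M with hfdef
  have hf : Function.Surjective f := QuotientGroup.mk'_surjective M
  haveI : Nontrivial (H ⧸ M) := by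
    rw [← Finite.one_lt_card_iff_nontrivial, ← index_eq_card]
    exact lt_of_le_of_ne (Nat.one_le_iff_ne_zero.2 index_ne_zero_of_finite)
      fun e => hM.1 (index_eq_one.1 e.symm)
  obtain ⟨q, hq, hd⟩ := Nat.exists_prime_and_dvd (n := Nat.card (H ⧸ M))
    (Finite.one_lt_card.ne')
  haveI := Fact.mk hq
  obtain ⟨c, hc⟩ := exists_prime_orderOf_dvd_card' (G := H ⧸ M) q hd
  have hlt : M < (zpowers c).comap f := by
    refine lt_of_le_of_ne (fun m hm => ?_) fun e => ?_
    · rw [mem_comap, hfdef, QuotientGroup.mk'_apply, (QuotientGroup.eq_one_iff m).2 hm]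
      exact one_mem _
    · obtain ⟨m, hm⟩ := hf c
      have : m ∈ M := e ▸ (mem_comap.2 (hm ▸ mem_zpowers c) : m ∈ (zpowers c).comap f)
      rw [← hm, hfdef, QuotientGroup.mk'_apply, (QuotientGroup.eq_one_iff m).2 this, orderOf_one] at hc
      exact hq.one_lt.ne hc
  have htop : zpowers c = ⊤ := by
    rw [← map_comap_eq_self_of_surjective hf (zpowers c), hM.2 _ hlt, map_top_of_surjective _ hf]
  have hcard : Nat.card (H ⧸ M) = q := by
    rw [← card_top (G := H ⧸ M), ← htop, Nat.card_zpowers, hc]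
  rw [index_eq_card, hcard]
  exact hq

/-- A non-abelian group with a nontrivial abelian normal subgroup is not perfect. -/
theorem commutator_ne_top {H : Type u} [Group H] [Finite H] (hsn : SN H)
    (hCA : ∀ (M : Subgroup H) [M.Normal], M ≠ ⊥ → IsSimpleGroup (H ⧸ M) →
      (¬ ∀ a b : H ⧸ M, a * b = b * a) → CfsgLib.CASimple.CA (H ⧸ M))
    (hna : ¬ ∀ a b : H, a * b = b * a) (A : Subgroup H) [A.Normal] (hA : Ab A) (hA1 : A ≠ ⊥) :
    commutator H ≠ ⊤ := by
  classical
  intro hperf
  have hAtop : A ≠ ⊤ := fun e => hna (ab_top.1 (e ▸ hA))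
  -- a maximal normal subgroup above `A`
  obtain ⟨M, hMmem, hmax⟩ := Set.Finite.exists_maximal
    (Set.toFinite {N : Subgroup H | N.Normal ∧ A ≤ N ∧ N ≠ ⊤}) ⟨A, inferInstance, le_rfl, hAtop⟩
  obtain ⟨hMn, hAM, hMtop⟩ := hMmem
  haveI := hMn
  set f := QuotientGroup.mk' M with hfdef
  have hf : Function.Surjective f := QuotientGroup.mk'_surjective M
  have hMab : Ab M := hsn.ab_of_normal (H := ⊤) le_top
    (fun g _ => by rw [normalizer_eq_top]; exact mem_top g) hMtop
  have hM1 : M ≠ ⊥ := fun e => hA1 (le_bot_iff.1 (e ▸ hAM))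
  haveI : Nontrivial (H ⧸ M) := by
    rw [← Finite.one_lt_card_iff_nontrivial, ← index_eq_card]
    exact lt_of_le_of_ne (Nat.one_le_iff_ne_zero.2 index_ne_zero_of_finite)
      fun e => hMtop (index_eq_one.1 e.symm)
  haveI hsimple : IsSimpleGroup (H ⧸ M) := ⟨fun N hN => by
    have hle : M ≤ N.comap f := fun m hm => by
      rw [mem_comap, hfdef, QuotientGroup.mk'_apply, (QuotientGroup.eq_one_iff m).2 hm]
      exact one_mem _
    rcases eq_or_ne (N.comap f) ⊤ with h | h
    · right
      rw [← map_comap_eq_self_of_surjective hf N, h, map_top_of_surjective _ hf]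
    · left
      rw [← map_comap_eq_self_of_surjective hf N,
        le_antisymm (hmax ⟨hN.comap f, hAM.trans hle, h⟩ hle) hle, hfdef, QuotientGroup.map_mk'_self]⟩
  have hQna : ¬ ∀ a b : H ⧸ M, a * b = b * a := by
    intro hc
    refine hMtop (eq_top_iff.2 (hperf ▸ ?_))
    rw [commutator_def, commutator_le]
    intro a _ b _
    refine (QuotientGroup.eq_one_iff _).1 ?_
    show f _ = 1
    rw [map_commutatorElement]
    exact commutatorElement_eq_one_iff_mul_comm.2 (hc _ _)
  have hQ := hCA M hM1 hsimple hQna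
  -- all Sylow subgroups are abelian and centralise `M`
  have key : ∀ (p : ℕ) [Fact p.Prime] (S : Sylow p H), Ab ((S : Subgroup H) ⊔ M) := by
    intro p _ S
    set T : Sylow p (H ⧸ M) := S.mapSurjective hf
    have hT : (T : Subgroup (H ⧸ M)) = (S : Subgroup H).map f := rfl
    have hL : (T : Subgroup (H ⧸ M)).comap f = (S : Subgroup H) ⊔ M := by
      rw [hT, comap_map_eq, hfdef, QuotientGroup.ker_mk']
    rw [← hL]
    by_contra hLn
    rcases eq_or_ne (T : Subgroup (H ⧸ M)) ⊥ with h0 | h0
    · refine hLn ?_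
      rw [h0, MonoidHom.comap_bot, hfdef, QuotientGroup.ker_mk']
      exact hMab
    haveI : Nontrivial (T : Subgroup (H ⧸ M)) := nontrivial_iff_ne_bot _ |>.2 h0
    haveI := T.2.center_nontrivial
    obtain ⟨z, hz⟩ := exists_ne (1 : center (T : Subgroup (H ⧸ M)))
    set z' : H ⧸ M := ((z : (T : Subgroup (H ⧸ M))) : H ⧸ M)
    have hz1 : z' ≠ 1 := fun e => hz (Subtype.ext (Subtype.ext e))
    have hTc : ∀ t ∈ (T : Subgroup (H ⧸ M)), t ∈ centralizer ({z'} : Set (H ⧸ M)) := fun t ht =>
      mem_centralizer_singleton_iff.2 (congrArg Subtype.val (mem_center_iff.1 z.2 ⟨t, ht⟩))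
    have hTab : Ab (T : Subgroup (H ⧸ M)) := fun a ha b hb => hQ z' hz1 a (hTc a ha) b (hTc b hb)
    have hnT : normalizer ((T : Subgroup (H ⧸ M)) : Set (H ⧸ M)) ≤
        centralizer ((T : Subgroup (H ⧸ M)) : Set (H ⧸ M)) := by
      intro q hq
      obtain ⟨g, rfl⟩ := hf q
      have hg : g ∈ normalizer (((T : Subgroup (H ⧸ M)).comap f : Subgroup H) : Set H) :=
        mem_normalizer_iff.2 fun w => by
          rw [mem_comap, mem_comap, map_mul, map_mul, map_inv]
          exact mem_normalizer_iff.1 hq (f w)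
      rw [hsn _ hLn] at hg
      exact mem_centralizer_iff.2 fun t ht => hTab t ht _ (mem_comap.1 hg)
    rcases CfsgLib.Transfer.simple_of_hasNormalPComplement
        (CfsgLib.Transfer.hasNormalPComplement_of_normalizer_le T hnT) with hnd | hp
    · obtain ⟨k, hk⟩ := T.2.exists_card_eq
      rcases Nat.eq_zero_or_pos k with rfl | hk0
      · rw [pow_zero] at hk
        exact h0 (card_eq_one.1 hk)
      · exact hnd ((dvd_pow_self p hk0.ne').trans
          (hk ▸ (T : Subgroup (H ⧸ M)).card_subgroup_dvd_card))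
    · exact hQna (comm_of_simple_pGroup hp)
  have hcent : centralizer (M : Set H) = ⊤ := by
    rw [← index_eq_one]
    by_contra hne
    obtain ⟨p, hp, hd⟩ := Nat.exists_prime_and_dvd hne
    haveI := Fact.mk hp
    let S : Sylow p H := default
    exact S.not_dvd_index (hd.trans (index_dvd_of_le fun s hs =>
      mem_centralizer_iff.2 fun m hm => key p S m (mem_sup_right hm) s (mem_sup_left hs)))
  obtain ⟨p, hp, hd⟩ := Nat.exists_prime_and_dvd (n := Nat.card M) fun e => hM1 (card_eq_one.1 e)
  haveI := Fact.mk hp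
  obtain ⟨z, hz⟩ := exists_prime_orderOf_dvd_card' (G := M) p hd
  rw [← orderOf_coe] at hz
  have hzc : ∀ g : H, g * z = z * g := fun g =>
    ((mem_centralizer_iff.1 (hcent.ge (mem_top g))) z z.2).symm
  haveI hzn : (zpowers (z : H)).Normal := ⟨fun w hw g => by
    obtain ⟨k, rfl⟩ := mem_zpowers_iff.1 hw
    have h1 : g * (z : H) ^ k = (z : H) ^ k * g := ((show Commute g (z : H) from hzc g).zpow_right k).eq
    rw [h1, mul_inv_cancel_right]
    exact zpow_mem (mem_zpowers _) k⟩
  let S : Sylow p H := default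
  have hzS : (z : H) ∈ (S : Subgroup H) := by
    have h1 := (IsPGroup.of_card (n := 1) (by rw [Nat.card_zpowers, hz, pow_one]) :
      IsPGroup p (zpowers (z : H))).to_sup_of_normal_left S.2
    rw [← S.3 h1 le_sup_right]
    exact mem_sup_left (mem_zpowers _)
  letI : CommGroup (S : Subgroup H) :=
    { (inferInstance : Group (S : Subgroup H)) with
      mul_comm := fun a b => Subtype.ext (key p S a (mem_sup_left a.2) b (mem_sup_left b.2)) }
  let φ : (S : Subgroup H) →* (S : Subgroup H) := MonoidHom.id _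
  have htr := MonoidHom.transfer_eq_pow φ (z : H) fun k g₀ _ => by
    rw [mul_assoc, ← ((show Commute g₀ (z : H) from hzc g₀).pow_right k).eq, inv_mul_cancel_left]
  have hker : (z : H) ∈ (MonoidHom.transfer φ).ker := by
    have h1 : commutator H ≤ (MonoidHom.transfer φ).ker := Abelianization.commutator_subset_ker _
    rw [hperf] at h1
    exact h1 (mem_top _)
  rw [MonoidHom.mem_ker.1 hker] at htr
  have h1 : (z : H) ^ (S : Subgroup H).index = 1 := (congrArg Subtype.val htr).symm
  have h2 := orderOf_dvd_of_pow_eq_one h1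
  rw [hz] at h2
  exact S.not_dvd_index h2

/-- Hence such a group has an abelian normal subgroup of prime index. -/
theorem exists_ab_prime_index {H : Type u} [Group H] [Finite H] (hsn : SN H)
    (hCA : ∀ (M : Subgroup H) [M.Normal], M ≠ ⊥ → IsSimpleGroup (H ⧸ M) →
      (¬ ∀ a b : H ⧸ M, a * b = b * a) → CfsgLib.CASimple.CA (H ⧸ M))
    (hna : ¬ ∀ a b : H, a * b = b * a) (A : Subgroup H) [A.Normal] (hA : Ab A) (hA1 : A ≠ ⊥) :
    ∃ M : Subgroup H, M.Normal ∧ Ab M ∧ M.index.Prime := by
  obtain ⟨M, hM, hidx⟩ := exists_prime_index (commutator_ne_top hsn hCA hna A hA hA1)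
  haveI := hM
  refine ⟨M, hM, hsn.ab_of_normal (H := ⊤) le_top
    (fun g _ => by rw [normalizer_eq_top]; exact mem_top g) fun e => ?_, hidx⟩
  rw [e, index_top] at hidx
  exact Nat.not_prime_one hidx

end CfsgLib.SelfNorm15
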